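import Cfsg.Agent.Lib.FGStruct.Baer.Main

/-!
The abelian case: one prime serves for all `q`-elements, and the quotient by the `q'`-core is
solvable.
-/

set_option autoImplicit false
set_option linter.style.haveILetI false
set_option linter.unusedSectionVars false

namespace Cfsg.Agent.Baer

open MulAction
open scoped commutatorElement

variable {G : Type*} [Group G] [Finite G] {q : ℕ} [hq : Fact q.Prime]

/-- An element of class size prime to `q` commutes with the `q'`-core modulo its own core. -/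
theorem commutator_mem_core {r a k : ℕ} (hr : r.Prime) {x : G} (hx : orderOf x = q ^ k)
    (hcl : (Subgroup.centralizer ({x} : Set G)).index = r ^ a) {g : G}
    (hg : g ∈ Cfsg.pPrimeCore q G) : g * x * g⁻¹ * x⁻¹ ∈ Cfsg.pCore r G := by
  haveI := Cfsg.Agent.FittingCores.pCore_normal (G := G) r
  haveI := Cfsg.Agent.FittingCores.pPrimeCore_normal (G := G) q
  set f := QuotientGroup.mk' (Cfsg.pCore r G) with hf
  have h1 : f x ∈ Cfsg.pCore q (G ⧸ Cfsg.pCore r G) := mem_pCore_quotient hr hx hcl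
  haveI := Cfsg.Agent.FittingCores.pCore_normal (G := G ⧸ Cfsg.pCore r G) q
  haveI hKn : ((Cfsg.pPrimeCore q G).map f).Normal :=
    Subgroup.Normal.map inferInstance f (QuotientGroup.mk'_surjective _)
  have hA : f g * f x * (f g)⁻¹ * (f x)⁻¹ ∈ Cfsg.pCore q (G ⧸ Cfsg.pCore r G) :=
    mul_mem (Subgroup.Normal.conj_mem inferInstance _ h1 _) (inv_mem h1)
  have hB : f g * f x * (f g)⁻¹ * (f x)⁻¹ ∈ (Cfsg.pPrimeCore q G).map f := by
    rw [show f g * f x * (f g)⁻¹ * (f x)⁻¹ = f g * (f x * (f g)⁻¹ * (f x)⁻¹) by group]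
    exact mul_mem ⟨g, hg, rfl⟩ (hKn.conj_mem _ (inv_mem ⟨g, hg, rfl⟩) _)
  have hcop : (Nat.card ((Cfsg.pPrimeCore q G).map f)).Coprime q :=
    (Cfsg.Agent.FittingCores.pPrimeCore_coprime q).coprime_dvd_left (Subgroup.card_map_dvd _ _)
  have h0 := Cfsg.Agent.PBasic.inf_eq_bot_of_coprime hcop
    (Cfsg.Agent.FittingCores.pCore_isPGroup (G := G ⧸ Cfsg.pCore r G) q)
  have h2 : f (g * x * g⁻¹ * x⁻¹) = 1 := by
    rw [map_mul, map_mul, map_mul, map_inv, map_inv, ← Subgroup.mem_bot, ← h0]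
    exact ⟨hB, hA⟩
  exact (QuotientGroup.eq_one_iff _).1 h2

/-- Conjugation on a normal abelian Sylow subgroup. -/
@[instance_reducible]
def autAction {H : Type*} [Group H] (S : Subgroup H) [S.Normal] [IsMulCommutative S] :
    letI : CommGroup S := { (inferInstance : Group S) with mul_comm := fun a b => mul_comm' a b }
    DistribMulAction (MulAut.conjNormal (H := S)).range (Additive S) :=
  letI : CommGroup S := { (inferInstance : Group S) with mul_comm := fun a b => mul_comm' a b }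
  { smul := fun e v => Additive.ofMul ((e : MulAut S) (Additive.toMul v))
    one_smul := fun _ => rfl
    mul_smul := fun _ _ _ => rfl
    smul_zero := fun e => congrArg Additive.ofMul (map_one (e : MulAut S))
    smul_add := fun e a b => congrArg Additive.ofMul
      (map_mul (e : MulAut S) (Additive.toMul a) (Additive.toMul b)) }

/-- The orbit facts on a normal abelian Sylow subgroup with prime power orbits. -/
theorem orbit_facts {H : Type*} [Group H] [Finite H] (S : Sylow q H) [hSn : (S : Subgroup H).Normal]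
    [hSc : IsMulCommutative (S : Subgroup H)]
    (hpp : ∀ x ∈ (S : Subgroup H), ∃ r a : ℕ, r.Prime ∧
      (Subgroup.centralizer ({x} : Set H)).index = r ^ a) :
    (∀ x ∈ (S : Subgroup H), ∀ y ∈ (S : Subgroup H), ∀ r s : ℕ, r.Prime → s.Prime →
      r ∣ (Subgroup.centralizer ({x} : Set H)).index →
      s ∣ (Subgroup.centralizer ({y} : Set H)).index → r = s) ∧
    ∀ p : ℕ, p.Prime →
      (∀ x ∈ (S : Subgroup H), ∃ a, (Subgroup.centralizer ({x} : Set H)).index = p ^ a) →
      Cfsg.pPrimeCore q H = ⊥ → Group.IsSolvable H := by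
  letI : CommGroup (S : Subgroup H) :=
    { (inferInstance : Group (S : Subgroup H)) with mul_comm := fun a b => mul_comm' a b }
  set φ : H →* MulAut (S : Subgroup H) := MulAut.conjNormal with hφ
  letI act : DistribMulAction φ.range (Additive (S : Subgroup H)) := autAction (S : Subgroup H)
  haveI : Finite (MulAut (S : Subgroup H)) :=
    Finite.of_injective (fun e : MulAut (S : Subgroup H) => e.toEquiv) fun e e' h =>
      MulEquiv.ext fun z => Equiv.congr_fun h z
  have hidx : ∀ (x : (S : Subgroup H)), (stabilizer φ.range (Additive.ofMul x)).index =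
      (Subgroup.centralizer ({(x : H)} : Set H)).index := by
    intro x
    rw [← Subgroup.index_comap_of_surjective _ φ.rangeRestrict_surjective]
    refine congrArg Subgroup.index ?_
    ext g
    rw [Subgroup.mem_comap, mem_stabilizer_iff, Subgroup.mem_centralizer_singleton_iff]
    change Additive.ofMul (φ g x) = Additive.ofMul x ↔ _
    rw [Additive.ofMul.apply_eq_iff_eq, Subtype.ext_iff, hφ, MulAut.conjNormal_apply,
      mul_inv_eq_iff_eq_mul]
  obtain ⟨n, hn⟩ := IsPGroup.iff_card.1 S.2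
  have hexp : ∀ v : Additive (S : Subgroup H), (q ^ n) • v = 0 := fun v => by
    change Additive.ofMul ((Additive.toMul v) ^ (q ^ n)) = 0
    rw [← hn, pow_card_eq_one']
    rfl
  have hker : (S : Subgroup H) ≤ φ.ker := fun s hs => by
    refine MonoidHom.mem_ker.2 (MulEquiv.ext fun x => Subtype.ext ?_)
    rw [hφ, MulAut.conjNormal_apply, MulAut.one_apply]
    have := congrArg Subtype.val (mul_comm' (⟨s, hs⟩ : (S : Subgroup H)) x)
    simp only [Subgroup.coe_mul] at this
    rw [this, mul_inv_cancel_right]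
  have hcop : (Nat.card φ.range).Coprime q := by
    rw [← Subgroup.index_ker]
    exact ((hq.out.coprime_iff_not_dvd.2 S.not_dvd_index).symm).coprime_dvd_left
      (Subgroup.index_dvd_of_le hker)
  have hpp' : ∀ v : Additive (S : Subgroup H), ∃ r a : ℕ, r.Prime ∧
      (stabilizer φ.range v).index = r ^ a := fun v => by
    obtain ⟨r, a, hr, ha⟩ := hpp _ (Additive.toMul v).2
    exact ⟨r, a, hr, by rw [← ha, ← hidx]; rfl⟩
  refine ⟨fun x hx y hy r s hr hs hrx hsy =>
    prime_unique hexp hcop hpp' hr hs (hidx ⟨x, hx⟩ ▸ hrx) (hidx ⟨y, hy⟩ ▸ hsy), ?_⟩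
  intro p hp hporb hO
  haveI := Fact.mk hp
  let Ab := Additive (S : Subgroup H)
  letI act' : DistribMulAction φ.range (Ab ⧸ qRange Ab q) := qAction φ.range q
  haveI : Finite (Ab ⧸ qRange Ab q) := Quotient.finite _
  have hsol : Group.IsSolvable φ.range := by
    refine solvable_of_orbits (V := Ab ⧸ qRange Ab q) (p := p) (q := q) (fun c => ?_) hcop
      (fun g hg => ?_) (fun c => ?_)
    · obtain ⟨v, rfl⟩ := QuotientAddGroup.mk_surjective c
      rw [← QuotientAddGroup.mk_nsmul, QuotientAddGroup.eq_zero_iff]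
      exact ⟨v, rfl⟩
    · have hfix := fixed_of_fixed_mod (B := Subgroup.zpowers g) hexp
        (hcop.coprime_dvd_left (Subgroup.card_subgroup_dvd_card _)) (fun h v => by
          refine QuotientAddGroup.eq_iff_sub_mem.1 ?_
          obtain ⟨i, hi⟩ := Subgroup.mem_zpowers_iff.1 h.2
          have hst : g ∈ stabilizer φ.range (v : Ab ⧸ qRange Ab q) := hg _
          exact (hi ▸ zpow_mem hst i : (h : φ.range) ∈ stabilizer φ.range (v : Ab ⧸ qRange Ab q)))
        ⟨g, Subgroup.mem_zpowers g⟩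
      exact Subtype.ext (MulEquiv.ext fun x =>
        Additive.ofMul.injective (hfix (Additive.ofMul x)))
    · obtain ⟨v, rfl⟩ := QuotientAddGroup.mk_surjective c
      obtain ⟨a, ha⟩ := hporb _ (Additive.toMul v).2
      have hle : stabilizer φ.range v ≤ stabilizer φ.range (v : Ab ⧸ qRange Ab q) := fun g hg =>
        congrArg QuotientAddGroup.mk (mem_stabilizer_iff.1 hg)
      obtain ⟨b, -, hb⟩ := (Nat.dvd_prime_pow hp).1
        (ha ▸ (hidx (Additive.toMul v)) ▸ Subgroup.index_dvd_of_le hle :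
          (stabilizer φ.range (v : Ab ⧸ qRange Ab q)).index ∣ p ^ a)
      exact ⟨b, hb⟩
  haveI : Group.IsSolvable (S : Subgroup H) := Group.isSolvable_of_comm fun a b => mul_comm a b
  refine Group.isSolvable_of_ker_le_range (S : Subgroup H).subtype φ.rangeRestrict fun h hh => ?_
  rw [Subgroup.range_subtype]
  refine centralizer_sylow_le hO S (Subgroup.mem_centralizer_iff.2 fun s hs => ?_)
  have h1 : φ h = 1 := congrArg Subtype.val (MonoidHom.mem_ker.1 hh)
  have h2 := congrArg (fun e : MulAut (S : Subgroup H) => ((e ⟨s, hs⟩ : (S : Subgroup H)) : H)) h1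
  simp only [hφ, MulAut.conjNormal_apply, MulAut.one_apply] at h2
  exact (mul_inv_eq_iff_eq_mul.1 h2).symm

variable (hB : ∀ x : G, (∃ k : ℕ, orderOf x = q ^ k) →
  ∃ (r a : ℕ), r.Prime ∧ (Subgroup.centralizer ({x} : Set G)).index = r ^ a)

include hB

theorem imageSylow_commutative (Q : Sylow q G) [(Cfsg.pPrimeCore q G).Normal]
    (hab : ∀ x ∈ (Q : Subgroup G), ∀ y ∈ (Q : Subgroup G), x * y = y * x) :
    IsMulCommutative (imageSylow Q : Subgroup (G ⧸ Cfsg.pPrimeCore q G)) := by
  refine .of_setLike_mul_comm fun a ha b hb => ?_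
  obtain ⟨x, hx, rfl⟩ := exists_of_mem_imageSylow Q ha
  obtain ⟨y, hy, rfl⟩ := exists_of_mem_imageSylow Q hb
  exact congrArg (QuotientGroup.mk' _) (hab x hx y hy)

theorem orbit_pp (Q : Sylow q G) [(Cfsg.pPrimeCore q G).Normal] :
    ∀ x ∈ (imageSylow Q : Subgroup (G ⧸ Cfsg.pPrimeCore q G)), ∃ r a : ℕ, r.Prime ∧
      (Subgroup.centralizer ({x} : Set (G ⧸ Cfsg.pPrimeCore q G))).index = r ^ a := by
  intro y hy
  obtain ⟨x, hx, rfl⟩ := exists_of_mem_imageSylow Q hy
  obtain ⟨k, r, a, hk, hr, ha⟩ := baer_mem hB Q hx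
  obtain ⟨b, -, hb⟩ := (Nat.dvd_prime_pow hr).1 (ha ▸ Cfsg.Agent.Kazarin.index_centralizer_map_dvd
    (QuotientGroup.mk' (Cfsg.pPrimeCore q G)) (QuotientGroup.mk'_surjective _) x)
  exact ⟨r, b, hr, hb⟩

theorem no_two_primes (Q : Sylow q G)
    (hab : ∀ x ∈ (Q : Subgroup G), ∀ y ∈ (Q : Subgroup G), x * y = y * x)
    {x y : G} (hx : x ∈ (Q : Subgroup G)) (hy : y ∈ (Q : Subgroup G)) {r s a b c : ℕ}
    (hr : r.Prime) (hs : s.Prime) (hrs : r ≠ s) (ha : a ≠ 0)
    (hxcl : (Subgroup.centralizer ({x} : Set G)).index = r ^ a)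
    (hycl : (Subgroup.centralizer ({y} : Set G)).index = s ^ b)
    (hzcl : (Subgroup.centralizer ({x * y} : Set G)).index = s ^ c) : False := by
  haveI hKn := Cfsg.Agent.FittingCores.pPrimeCore_normal (G := G) q
  haveI hSn := imageSylow_normal hB Q
  haveI := imageSylow_commutative hB Q hab
  set K := Cfsg.pPrimeCore q G with hK
  set f := QuotientGroup.mk' K with hf
  obtain ⟨kx, -, -, hkx, -, -⟩ := baer_mem hB Q hx
  obtain ⟨ky, -, -, hky, -, -⟩ := baer_mem hB Q hy
  obtain ⟨kz, -, -, hkz, -, -⟩ := baer_mem hB Q (mul_mem hx hy)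
  -- the `q'`-core centralizes `x`
  have hKx : ∀ g ∈ K, g * x = x * g := by
    intro g hg
    have hA := commutator_mem_core hr hkx hxcl hg
    have hBy := commutator_mem_core hs hky hycl hg
    have hBz := commutator_mem_core hs hkz hzcl hg
    haveI := Cfsg.Agent.FittingCores.pCore_normal (G := G) s
    haveI := Fact.mk hr
    haveI := Fact.mk hs
    have hBx : g * x * g⁻¹ * x⁻¹ ∈ Cfsg.pCore s G := by
      rw [← QuotientGroup.eq_one_iff, ← QuotientGroup.mk'_apply] at hBy hBz ⊢
      simp only [map_mul, map_inv] at hBy hBz ⊢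
      set G' := QuotientGroup.mk' (Cfsg.pCore s G)
      have e1 : G' g * G' y * (G' g)⁻¹ = G' y := mul_inv_eq_one.1 hBy
      have e2 : G' g * (G' x * G' y) * (G' g)⁻¹ = G' x * G' y := mul_inv_eq_one.1 hBz
      rw [mul_inv_eq_one]
      calc G' g * G' x * (G' g)⁻¹
          = G' g * (G' x * G' y) * (G' g)⁻¹ * (G' g * G' y * (G' g)⁻¹)⁻¹ := by group
        _ = G' x := by rw [e1, e2, mul_inv_cancel_right]
    have h0 : Cfsg.pCore s G ⊓ Cfsg.pCore r G = ⊥ := by
      refine Cfsg.Agent.PBasic.inf_eq_bot_of_coprime ?_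
        (Cfsg.Agent.FittingCores.pCore_isPGroup (G := G) r)
      obtain ⟨n, hn⟩ := IsPGroup.iff_card.1 (Cfsg.Agent.FittingCores.pCore_isPGroup (G := G) s)
      exact hn ▸ ((Nat.coprime_primes hs hr).2 hrs.symm).pow_left n
    have h1 : g * x * g⁻¹ * x⁻¹ = 1 := Subgroup.mem_bot.1 (h0 ▸ ⟨hBx, hA⟩)
    exact mul_inv_eq_iff_eq_mul.1 (mul_inv_eq_one.1 h1)
  have hxbar : (Subgroup.centralizer ({f x} : Set (G ⧸ K))).index = r ^ a := by
    rw [← hxcl, ← Subgroup.index_comap_of_surjective _ (QuotientGroup.mk'_surjective K)]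
    refine congrArg Subgroup.index ?_
    ext g
    simp only [Subgroup.mem_comap, Subgroup.mem_centralizer_singleton_iff, ← map_mul]
    refine ⟨fun h => ?_, fun h => congrArg f h⟩
    have hk' : x⁻¹ * (g * x * g⁻¹) ∈ K := by
      rw [← QuotientGroup.eq_one_iff, ← QuotientGroup.mk'_apply]
      simp only [map_mul, map_inv] at h ⊢
      rw [h, hf, mul_inv_cancel_right, inv_mul_cancel]
    have hc : Commute x (x⁻¹ * (g * x * g⁻¹)) := (hKx _ hk').symm
    have hcyy : Commute x (g * x * g⁻¹) := by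
      simpa using (Commute.refl x).mul_right hc
    have h1 : x⁻¹ * (g * x * g⁻¹) = 1 := by
      refine eq_one_of_mem_pPrimeCore hk' (k := kx) ?_
      rw [hcyy.inv_left.mul_pow, inv_pow, conj_pow, ← hkx, pow_orderOf_eq_one, inv_one, one_mul,
        mul_one, mul_inv_cancel]
    exact mul_inv_eq_iff_eq_mul.1 (inv_mul_eq_one.1 h1).symm
  obtain ⟨b', -, hb'⟩ := (Nat.dvd_prime_pow hs).1
    (hycl ▸ Cfsg.Agent.Kazarin.index_centralizer_map_dvd f (QuotientGroup.mk'_surjective _) y)
  have hdz := hzcl ▸ Cfsg.Agent.Kazarin.index_centralizer_map_dvd f (QuotientGroup.mk'_surjective _)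
    (x * y)
  by_cases hb0 : b' = 0
  · have htop : Subgroup.centralizer ({f y} : Set (G ⧸ K)) = ⊤ :=
      Subgroup.index_eq_one.1 (by rw [hb', hb0, pow_zero])
    have hce : Subgroup.centralizer ({f (x * y)} : Set (G ⧸ K)) =
        Subgroup.centralizer ({f x} : Set (G ⧸ K)) := by
      ext g
      have hg : g * f y = f y * g :=
        Subgroup.mem_centralizer_singleton_iff.1 (htop ▸ Subgroup.mem_top g)
      simp only [Subgroup.mem_centralizer_singleton_iff, map_mul]
      rw [mul_assoc, ← hg, ← mul_assoc, ← mul_assoc]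
      exact mul_left_inj _
    rw [hce, hxbar] at hdz
    exact hrs ((Nat.prime_dvd_prime_iff_eq hr hs).1
      (hr.dvd_of_dvd_pow ((dvd_pow_self r ha).trans hdz)))
  · exact hrs ((orbit_facts (imageSylow Q) (orbit_pp hB Q)).1 (f x) (mem_imageSylow Q hx) (f y)
      (mem_imageSylow Q hy) r s hr hs (hxbar ▸ dvd_pow_self r ha) (hb' ▸ dvd_pow_self s hb0))

theorem prime_unique_class (Q : Sylow q G)
    (hab : ∀ x ∈ (Q : Subgroup G), ∀ y ∈ (Q : Subgroup G), x * y = y * x)
    {x y : G} (hx : x ∈ (Q : Subgroup G)) (hy : y ∈ (Q : Subgroup G)) {r s a b : ℕ}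
    (hr : r.Prime) (hs : s.Prime) (ha : a ≠ 0) (hb : b ≠ 0)
    (hxcl : (Subgroup.centralizer ({x} : Set G)).index = r ^ a)
    (hycl : (Subgroup.centralizer ({y} : Set G)).index = s ^ b) : r = s := by
  by_contra hrs
  obtain ⟨-, t, c, -, ht, hzcl⟩ := baer_mem hB Q (mul_mem hx hy)
  by_cases htr : t = r
  · subst htr
    exact no_two_primes hB Q hab hy hx hs hr (Ne.symm hrs) hb hycl hxcl
      (by rw [← hab x hx y hy]; exact hzcl)
  set A := Subgroup.centralizer ({x} : Set G)
  set B := Subgroup.centralizer ({y} : Set G)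
  set C := Subgroup.centralizer ({x * y} : Set G)
  have hAC : A ⊓ C = A ⊓ B := by
    ext g
    simp only [Subgroup.mem_inf, A, B, C, Subgroup.mem_centralizer_singleton_iff]
    constructor
    · rintro ⟨h1, h2⟩
      refine ⟨h1, mul_left_cancel (a := x) ?_⟩
      rw [← mul_assoc, ← h1, mul_assoc, h2, mul_assoc]
    · rintro ⟨h1, h2⟩
      refine ⟨h1, ?_⟩
      rw [← mul_assoc, h1, mul_assoc, h2, mul_assoc]
  have hprod : ∀ U V : Subgroup G, U.index.Coprime V.index → (U ⊓ V).index = U.index * V.index :=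
    fun U V huv => le_antisymm Subgroup.index_inf_le
      (Nat.le_of_dvd (Nat.pos_of_ne_zero Subgroup.index_ne_zero_of_finite)
        (huv.mul_dvd_of_dvd_of_dvd (Subgroup.index_dvd_of_le inf_le_left)
          (Subgroup.index_dvd_of_le inf_le_right)))
  have h1 := hprod A B (by rw [hxcl, hycl]; exact Nat.coprime_pow_primes _ _ hr hs hrs)
  have h2 := hprod A C (by rw [hxcl, hzcl]; exact Nat.coprime_pow_primes _ _ hr ht (Ne.symm htr))
  rw [hAC, h1, hxcl, hycl, hzcl] at h2
  have hbc : s ^ b = t ^ c := Nat.eq_of_mul_eq_mul_left (pow_pos hr.pos a) h2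
  have hst : s = t := (Nat.prime_dvd_prime_iff_eq hs ht).1
    (hs.dvd_of_dvd_pow (hbc ▸ dvd_pow_self s hb))
  exact no_two_primes hB Q hab hx hy hr hs hrs ha hxcl hycl (hst ▸ hzcl)

theorem sup_normal {p : ℕ} (hp : p.Prime) (Q : Sylow q G)
    (hall : ∀ x ∈ (Q : Subgroup G), ∃ a, (Subgroup.centralizer ({x} : Set G)).index = p ^ a) :
    (Cfsg.pCore p G ⊔ (Q : Subgroup G)).Normal := by
  haveI := Cfsg.Agent.FittingCores.pCore_normal (G := G) p
  set f := QuotientGroup.mk' (Cfsg.pCore p G) with hf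
  have h1 : (Q : Subgroup G).map f = Cfsg.pCore q (G ⧸ Cfsg.pCore p G) := by
    refine le_antisymm ?_ ?_
    · rintro _ ⟨x, hx, rfl⟩
      obtain ⟨k, -, -, hk, -, -⟩ := baer_mem hB Q hx
      obtain ⟨a, ha⟩ := hall x hx
      exact mem_pCore_quotient hp hk ha
    · exact Cfsg.Agent.FittingCores.pCore_le_sylow
        (Q.mapSurjective (f := f) (QuotientGroup.mk'_surjective _))
  have h2 : Cfsg.pCore p G ⊔ (Q : Subgroup G) = (Cfsg.pCore q (G ⧸ Cfsg.pCore p G)).comap f := by
    rw [← h1, Subgroup.comap_map_eq, hf, QuotientGroup.ker_mk', sup_comm]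
  rw [h2]
  exact (Cfsg.Agent.FittingCores.pCore_normal q).comap f

theorem quotient_solvable {p : ℕ} (hp : p.Prime) (Q : Sylow q G)
    (hab : ∀ x ∈ (Q : Subgroup G), ∀ y ∈ (Q : Subgroup G), x * y = y * x)
    (hall : ∀ x ∈ (Q : Subgroup G), ∃ a, (Subgroup.centralizer ({x} : Set G)).index = p ^ a)
    [(Cfsg.pPrimeCore q G).Normal] : Group.IsSolvable (G ⧸ Cfsg.pPrimeCore q G) := by
  haveI hSn := imageSylow_normal hB Q
  haveI := imageSylow_commutative hB Q hab
  refine (orbit_facts (imageSylow Q) (orbit_pp hB Q)).2 p hp ?_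
    (Cfsg.Agent.FittingCores.pPrimeCore_quotient_eq_bot q _ rfl)
  intro y hy
  obtain ⟨x, hx, rfl⟩ := exists_of_mem_imageSylow Q hy
  obtain ⟨a, ha⟩ := hall x hx
  obtain ⟨b, -, hb⟩ := (Nat.dvd_prime_pow hp).1 (ha ▸ Cfsg.Agent.Kazarin.index_centralizer_map_dvd
    (QuotientGroup.mk' (Cfsg.pPrimeCore q G)) (QuotientGroup.mk'_surjective _) x)
  exact ⟨b, hb⟩

end Cfsg.Agent.Baer
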