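import Mathlib.GroupTheory.GroupAction.Quotient
import Mathlib.GroupTheory.Index
import Mathlib.Algebra.Module.ZMod
import Mathlib.Algebra.Field.ZMod
import Mathlib.LinearAlgebra.Basis.VectorSpace
import Mathlib.LinearAlgebra.Projection
import Mathlib.GroupTheory.QuotientGroup.Basic
import Mathlib.Algebra.BigOperators.Group.Finset.Basic
import Mathlib.RingTheory.Coprime.Lemmas

/-!
Coprime action on abelian `q`-groups: averaging, lifting of fixed points, and two orbits of coprime
size.
-/

set_option autoImplicit false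
set_option linter.style.haveILetI false

namespace Cfsg.Agent.Baer

open MulAction

/-- A transitive subgroup of coprime index. -/
theorem orbit_of_coprime {B X : Type*} [Group B] [Finite B] [MulAction B X] (A : Subgroup B) (v : X)
    (h : A.index.Coprime (stabilizer B v).index) (g : B) : ∃ a ∈ A, a • v = g • v := by
  set C := stabilizer B v with hC
  have h1 : (A ⊓ C).index = C.relIndex A * A.index := by
    rw [← Subgroup.relIndex_mul_index (inf_le_left : A ⊓ C ≤ A), Subgroup.inf_relIndex_left]
  have h2 : C.index ∣ C.relIndex A * A.index := h1 ▸ Subgroup.index_dvd_of_le inf_le_right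
  have h3 : C.index ≤ C.relIndex A := Nat.le_of_dvd
    (Nat.pos_of_ne_zero (fun e => by
      rw [e, zero_mul] at h1; exact Subgroup.index_ne_zero_of_finite h1))
    (h.symm.dvd_of_dvd_mul_right h2)
  have hst : stabilizer A v = C.subgroupOf A := by
    ext a; rfl
  have hsub : orbit A v ⊆ orbit B v := by
    rintro _ ⟨a, rfl⟩; exact ⟨(a : B), rfl⟩
  have hfin : (orbit B v).Finite := Set.finite_range _
  have hle : (orbit B v).ncard ≤ (orbit A v).ncard := by
    rw [← index_stabilizer, ← index_stabilizer, hst]; exact h3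
  have he := Set.eq_of_subset_of_ncard_le hsub hle hfin
  have hg : g • v ∈ orbit A v := he ▸ mem_orbit v g
  obtain ⟨a, ha⟩ := hg
  exact ⟨(a : B), a.2, ha⟩

variable {V : Type*} [AddCommGroup V]

/-- The weighted average over a group. -/
noncomputable def avg (B : Type*) [Group B] [Finite B] [DistribMulAction B V] (m : ℤ) : V →+ V :=
  haveI := Fintype.ofFinite B
  m • ∑ g : B, DistribSMul.toAddMonoidHom V g

variable {B : Type*} [Group B] [Finite B] [DistribMulAction B V]

theorem avg_apply [Fintype B] (m : ℤ) (v : V) : avg B m v = m • ∑ g : B, g • v := by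
  rw [avg, Subsingleton.elim (Fintype.ofFinite B) ‹Fintype B›]
  simp only [AddMonoidHom.coe_smul, Pi.smul_apply, AddMonoidHom.finsetSum_apply,
    DistribSMul.toAddMonoidHom_apply]

omit [Finite B] in
theorem smul_zsmul_comm (g : B) (m : ℤ) (v : V) : g • (m • v) = m • (g • v) :=
  map_zsmul (DistribSMul.toAddMonoidHom V g) m v

theorem smul_avg (m : ℤ) (g : B) (v : V) : g • avg B m v = avg B m v := by
  haveI := Fintype.ofFinite B
  rw [avg_apply, smul_zsmul_comm, Finset.smul_sum]
  congr 1
  simp_rw [← mul_smul]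
  exact Equiv.sum_comp (Equiv.mulLeft g) fun x => x • v

theorem avg_smul (m : ℤ) (g : B) (v : V) : avg B m (g • v) = avg B m v := by
  haveI := Fintype.ofFinite B
  rw [avg_apply, avg_apply]
  congr 1
  simp_rw [← mul_smul]
  exact Equiv.sum_comp (Equiv.mulRight g) fun x => x • v

theorem avg_of_fixed {m : ℤ} (hm : ∀ v : V, (m * Nat.card B) • v = v) {v : V}
    (h : ∀ g : B, g • v = v) : avg B m v = v := by
  haveI := Fintype.ofFinite B
  rw [avg_apply]
  simp only [h, Finset.sum_const, Finset.card_univ, ← Nat.card_eq_fintype_card]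
  rw [← natCast_zsmul, smul_smul, hm]

omit [Finite B] [DistribMulAction B V] in
theorem exists_coef {q N n : ℕ} (hexp : ∀ v : V, (q ^ N) • v = 0) (hcop : n.Coprime q) :
    ∃ m : ℤ, ∀ v : V, (m * n) • v = v := by
  obtain ⟨a, b, hab⟩ := (Nat.isCoprime_iff_coprime.2 (hcop.pow_right N) : IsCoprime (n : ℤ) ((q ^ N : ℕ) : ℤ))
  refine ⟨a, fun v => ?_⟩
  conv_rhs => rw [← one_zsmul v, ← hab, add_zsmul, mul_zsmul, mul_zsmul, natCast_zsmul, natCast_zsmul,
    hexp, zsmul_zero, add_zero]
  rw [mul_zsmul, natCast_zsmul]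

variable (V) in
/-- The subgroup of multiples of `q`. -/
def qRange (q : ℕ) : AddSubgroup V := (nsmulAddMonoidHom q : V →+ V).range

omit [Finite B] in
theorem smul_mem_qRange {q : ℕ} (g : B) {v : V} (h : v ∈ qRange V q) : g • v ∈ qRange V q := by
  obtain ⟨t, rfl⟩ := h
  exact ⟨g • t, (map_nsmul (DistribSMul.toAddMonoidHom V g) q t).symm⟩

theorem split {q : ℕ} {m : ℤ} (hm : ∀ v : V, (m * Nat.card B) • v = v) {t : V}
    (h : ∀ g : B, g • t - t ∈ qRange V q) : t - avg B m t ∈ qRange V q := by
  haveI := Fintype.ofFinite B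
  have h1 : t - avg B m t = m • ∑ g : B, (t - g • t) := by
    rw [avg_apply, Finset.sum_sub_distrib, zsmul_sub]
    congr 1
    rw [Finset.sum_const, Finset.card_univ, ← Nat.card_eq_fintype_card, ← natCast_zsmul, smul_smul, hm]
  rw [h1]
  refine AddSubgroup.zsmul_mem _ (AddSubgroup.sum_mem _ fun g _ => ?_) m
  rw [← neg_sub]
  exact neg_mem (h g)

/-- Iterated lifting. -/
theorem fixed_of_mod {q N : ℕ} (hexp : ∀ v : V, (q ^ N) • v = 0) (hcop : (Nat.card B).Coprime q)
    {u : V} (h : ∀ t w : V, (∀ g : B, g • w = w) → (∃ k, u = w + (q ^ k) • t) →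
      ∀ g : B, g • t - t ∈ qRange V q) (g : B) : g • u = u := by
  obtain ⟨m, hm⟩ := exists_coef hexp hcop
  have hk : ∀ k, ∃ w t : V, (∀ g : B, g • w = w) ∧ u = w + (q ^ k) • t := by
    intro k
    induction k with
    | zero => exact ⟨0, u, fun g => smul_zero g, by simp⟩
    | succ k ih =>
      obtain ⟨w, t, hw, hu⟩ := ih
      obtain ⟨t', ht'⟩ := split hm (h t w hw ⟨k, hu⟩)
      refine ⟨w + (q ^ k) • avg B m t, t', fun g => ?_, ?_⟩
      · rw [smul_add, hw g]
        congr 1
        rw [← DistribSMul.toAddMonoidHom_apply V g, map_nsmul, DistribSMul.toAddMonoidHom_apply,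
          smul_avg]
      · have h2 : t = avg B m t + q • t' := by
          rw [show q • t' = t - avg B m t from ht']; abel
        calc u = w + (q ^ k) • t := hu
          _ = w + (q ^ k) • (avg B m t + q • t') := by rw [← h2]
          _ = _ := by rw [nsmul_add, ← mul_nsmul', ← pow_succ]; abel
  obtain ⟨w, t, hw, hu⟩ := hk N
  rw [hu, hexp, add_zero]
  exact hw g

theorem fixed_of_fixed_mod {q N : ℕ} (hexp : ∀ v : V, (q ^ N) • v = 0)
    (hcop : (Nat.card B).Coprime q) (h : ∀ (g : B) (v : V), g • v - v ∈ qRange V q) (g : B) (u : V) :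
    g • u = u :=
  fixed_of_mod hexp hcop (fun t _ _ _ g => h g t) g

theorem exists_proj_aux {q : ℕ} [Fact q.Prime] {W : Type*} [AddCommGroup W] [Module (ZMod q) W]
    (T : Submodule (ZMod q) W) : ∃ f : W →+ W, (∀ x, f x ∈ T) ∧ ∀ x ∈ T, f x = x := by
  obtain ⟨C, hC⟩ := Submodule.exists_isCompl T
  refine ⟨(T.subtype.comp (T.projectionOnto C hC)).toAddMonoidHom,
    fun x => (T.projectionOnto C hC x).2, fun x hx => ?_⟩
  exact congrArg Subtype.val (Submodule.projectionOnto_apply_left hC ⟨x, hx⟩)

omit [Finite B] [DistribMulAction B V] in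
/-- Elementary abelian groups are completely decomposable. -/
theorem exists_proj {q : ℕ} [Fact q.Prime] (hel : ∀ v : V, q • v = 0) (T : AddSubgroup V) :
    ∃ f : V →+ V, (∀ x, f x ∈ T) ∧ ∀ x ∈ T, f x = x :=
  letI : Module (ZMod q) V := AddCommGroup.zmodModule hel
  exists_proj_aux (AddSubgroup.toZModSubmodule q T)

/-- Two vectors with orbits of coprime size: the stabilizer of the sum fixes both. -/
theorem stabilizer_add_le {q : ℕ} [Fact q.Prime] (hel : ∀ v : V, q • v = 0)
    (hcop : (Nat.card B).Coprime q) (u v : V)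
    (huv : (stabilizer B u).index.Coprime (stabilizer B v).index) :
    stabilizer B (u + v) ≤ stabilizer B u := by
  haveI := Fintype.ofFinite B
  have hexp : ∀ v : V, (q ^ 1) • v = 0 := by simpa using hel
  obtain ⟨m, hm⟩ := exists_coef hexp hcop
  obtain ⟨mA, hmA⟩ := exists_coef hexp
    (hcop.coprime_dvd_left (Subgroup.card_subgroup_dvd_card (stabilizer B u)))
  let D : V → AddSubgroup V := fun x => AddSubgroup.closure (Set.range fun g : B => g • x - x)
  have hD : ∀ x, ∀ g : B, ∀ y ∈ D x, g • y ∈ D x := by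
    intro x g y hy
    induction hy using AddSubgroup.closure_induction with
    | mem z hz =>
      obtain ⟨k, rfl⟩ := hz
      simp only
      rw [smul_sub, ← mul_smul, show (g * k) • x - g • x = ((g * k) • x - x) - (g • x - x) by abel]
      exact sub_mem (AddSubgroup.subset_closure ⟨g * k, rfl⟩) (AddSubgroup.subset_closure ⟨g, rfl⟩)
    | zero => rw [smul_zero]; exact zero_mem _
    | add a b _ _ ha hb => rw [smul_add]; exact add_mem ha hb
    | neg a _ ha => rw [smul_neg]; exact neg_mem ha
  have hkill : ∀ y ∈ D v, avg (stabilizer B u) mA y = 0 := by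
    intro y hy
    induction hy using AddSubgroup.closure_induction with
    | mem z hz =>
      obtain ⟨g, rfl⟩ := hz
      obtain ⟨a, ha, hav⟩ := orbit_of_coprime (stabilizer B u) v huv g
      simp only
      rw [map_sub, ← hav, show a • v = (⟨a, ha⟩ : stabilizer B u) • v from rfl, avg_smul, sub_self]
    | zero => exact map_zero _
    | add a b _ _ ha hb => rw [map_add, ha, hb, add_zero]
    | neg a _ ha => rw [map_neg, ha, neg_zero]
  set T := D u ⊓ D v with hT
  obtain ⟨f, hfT, hf⟩ := exists_proj hel T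
  let ρ : V →+ V := m • ∑ g : B, (DistribSMul.toAddMonoidHom V g).comp
    (f.comp (DistribSMul.toAddMonoidHom V g⁻¹))
  have hρ : ∀ x, ρ x = m • ∑ g : B, g • f (g⁻¹ • x) := by
    intro x
    simp [ρ, AddMonoidHom.finsetSum_apply]
  have hTst : ∀ g : B, ∀ y ∈ T, g • y ∈ T := fun g y hy => ⟨hD u g y hy.1, hD v g y hy.2⟩
  have hρmem : ∀ x, ρ x ∈ T := fun x => by
    rw [hρ]
    exact AddSubgroup.zsmul_mem _ (AddSubgroup.sum_mem _ fun g _ => hTst g _ (hfT _)) m
  have hρid : ∀ y ∈ T, ρ y = y := by
    intro y hy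
    rw [hρ]
    have : ∀ g : B, g • f (g⁻¹ • y) = y := fun g => by
      rw [hf _ (hTst g⁻¹ y hy)]
      exact smul_inv_smul g y
    simp only [this, Finset.sum_const, Finset.card_univ, ← Nat.card_eq_fintype_card]
    rw [← natCast_zsmul, smul_smul, hm]
  have hρeq : ∀ (h : B) (x : V), ρ (h • x) = h • ρ x := by
    intro h x
    rw [hρ, hρ, smul_zsmul_comm, Finset.smul_sum (r := h)]
    congr 1
    refine (Equiv.sum_comp (Equiv.mulLeft h) _).symm.trans (Finset.sum_congr rfl fun g _ => ?_)
    simp only [Equiv.coe_mulLeft]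
    rw [mul_inv_rev, mul_smul, mul_smul, inv_smul_smul]
  have hρu : ρ u = 0 := by
    have hfix : ∀ a : stabilizer B u, a • ρ u = ρ u := fun a => by
      show (a : B) • ρ u = ρ u
      rw [← hρeq, mem_stabilizer_iff.1 a.2]
    rw [← avg_of_fixed hmA hfix]
    exact hkill _ (hρmem u).2
  have hT0 : ∀ y ∈ T, y = 0 := by
    intro y hy
    rw [← hρid y hy]
    suffices ∀ z ∈ D u, ρ z = 0 from this y hy.1
    intro z hz
    clear hy
    induction hz using AddSubgroup.closure_induction with
    | mem z hz =>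
      obtain ⟨g, rfl⟩ := hz
      simp only
      rw [map_sub, hρeq, hρu, smul_zero, sub_zero]
    | zero => exact map_zero _
    | add a b _ _ ha hb => rw [map_add, ha, hb, add_zero]
    | neg a _ ha => rw [map_neg, ha, neg_zero]
  intro g hg
  rw [mem_stabilizer_iff] at hg ⊢
  rw [smul_add] at hg
  have h2 : g • u - u = -(g • v - v) := by
    rw [neg_sub, sub_eq_sub_iff_add_eq_add, hg]; abel
  have h3 : g • u - u ∈ T :=
    ⟨AddSubgroup.subset_closure ⟨g, rfl⟩,
      h2 ▸ (D v).neg_mem (AddSubgroup.subset_closure ⟨g, rfl⟩)⟩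
  exact sub_eq_zero.1 (hT0 _ h3)

omit [Finite B] in
/-- The action on the quotient modulo multiples of `q`. -/
@[instance_reducible]
noncomputable def qAction (B : Type*) [Group B] [DistribMulAction B V] (q : ℕ) :
    DistribMulAction B (V ⧸ qRange V q) where
  smul g x := QuotientAddGroup.map (qRange V q) (qRange V q) (DistribSMul.toAddMonoidHom V g)
    (fun _ hv => smul_mem_qRange g hv) x
  mul_smul g h x := by
    induction x using QuotientAddGroup.induction_on with
    | H v => exact congrArg QuotientAddGroup.mk (mul_smul g h v)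
  one_smul x := by
    induction x using QuotientAddGroup.induction_on with
    | H v => exact congrArg QuotientAddGroup.mk (one_smul B v)
  smul_zero g := map_zero _
  smul_add g x y := map_add _ x y

/-- If all orbit sizes are prime powers then only one prime occurs. -/
theorem prime_unique {q N : ℕ} [Fact q.Prime] (hexp : ∀ v : V, (q ^ N) • v = 0)
    (hcop : (Nat.card B).Coprime q)
    (hpp : ∀ v : V, ∃ r a : ℕ, r.Prime ∧ (stabilizer B v).index = r ^ a)
    {u v : V} {r s : ℕ} (hr : r.Prime) (hs : s.Prime)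
    (hu : r ∣ (stabilizer B u).index) (hv : s ∣ (stabilizer B v).index) : r = s := by
  letI := qAction (V := V) B q
  have hel : ∀ c : V ⧸ qRange V q, q • c = 0 := by
    intro c
    induction c using QuotientAddGroup.induction_on with
    | H t =>
      rw [← QuotientAddGroup.mk_nsmul, QuotientAddGroup.eq_zero_iff]
      exact ⟨t, rfl⟩
  have hle : ∀ t : V, stabilizer B t ≤ stabilizer B (t : V ⧸ qRange V q) := fun t g hg =>
    congrArg QuotientAddGroup.mk (mem_stabilizer_iff.1 hg)
  have hwit : ∀ (x : V) (l : ℕ), l.Prime → l ∣ (stabilizer B x).index →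
      ∃ c : V ⧸ qRange V q, l ∣ (stabilizer B c).index ∧
        ∃ b, (stabilizer B c).index = l ^ b := by
    intro x l hl hx
    by_contra hno
    push Not at hno
    have hfix : ∀ g : B, g • x = x := fixed_of_mod hexp hcop fun t w hw ⟨k, hxt⟩ g => by
      have hst : stabilizer B t ≤ stabilizer B x := fun h hh => by
        rw [mem_stabilizer_iff] at hh ⊢
        rw [hxt, smul_add, hw h, ← DistribSMul.toAddMonoidHom_apply V h, map_nsmul,
          DistribSMul.toAddMonoidHom_apply, hh]
      obtain ⟨l', a, hl', hta⟩ := hpp t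
      have hll : l = l' := (Nat.prime_dvd_prime_iff_eq hl hl').1
        (hl.dvd_of_dvd_pow (hta ▸ hx.trans (Subgroup.index_dvd_of_le hst)))
      subst hll
      obtain ⟨b, -, hb⟩ := (Nat.dvd_prime_pow hl).1 (hta ▸ Subgroup.index_dvd_of_le (hle t))
      have hb0 : b = 0 := by
        by_contra hb0
        exact hno (t : V ⧸ qRange V q) (hb ▸ dvd_pow_self l hb0) b hb
      have htop : stabilizer B (t : V ⧸ qRange V q) = ⊤ := Subgroup.index_eq_one.1 (by rw [hb, hb0, pow_zero])
      have hg : ((g • t : V) : V ⧸ qRange V q) = t :=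
        mem_stabilizer_iff.1 (htop ▸ Subgroup.mem_top g : g ∈ stabilizer B (t : V ⧸ qRange V q))
      exact (QuotientAddGroup.eq_iff_sub_mem).1 hg
    have : stabilizer B x = ⊤ := eq_top_iff.2 fun g _ => hfix g
    rw [this, Subgroup.index_top, Nat.dvd_one] at hx
    exact hl.ne_one hx
  by_contra hrs
  obtain ⟨c, hc, bc, hbc⟩ := hwit u r hr hu
  obtain ⟨d, hd, bd, hbd⟩ := hwit v s hs hv
  have hcd : (stabilizer B c).index.Coprime (stabilizer B d).index := by
    rw [hbc, hbd]; exact Nat.coprime_pow_primes _ _ hr hs hrs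
  have h1 := Subgroup.index_dvd_of_le (stabilizer_add_le hel hcop c d hcd)
  have h2 : stabilizer B (c + d) ≤ stabilizer B d := by
    rw [add_comm]; exact stabilizer_add_le hel hcop d c hcd.symm
  obtain ⟨t, ht⟩ := QuotientAddGroup.mk_surjective (c + d)
  obtain ⟨l, a, hl, hla⟩ := hpp t
  have hdvd : (stabilizer B (c + d)).index ∣ l ^ a := ht ▸ hla ▸ Subgroup.index_dvd_of_le (hle t)
  exact hrs (((Nat.prime_dvd_prime_iff_eq hr hl).1 (hr.dvd_of_dvd_pow ((hc.trans h1).trans hdvd))).trans
    ((Nat.prime_dvd_prime_iff_eq hs hl).1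
      (hs.dvd_of_dvd_pow ((hd.trans (Subgroup.index_dvd_of_le h2)).trans hdvd))).symm)

end Cfsg.Agent.Baer
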