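import Cfsg.Agent.Lib.OddOrder.Nilpotent
import Cfsg.Agent.Lib.Solvable.Structure
import Cfsg.Agent.Lib.Solvable.Coprime
import Mathlib.GroupTheory.SpecificGroups.Cyclic
import Mathlib.Data.ZMod.Basic
import Mathlib.FieldTheory.Finite.Basic
import Mathlib.Data.Int.GCD
import Mathlib.Data.Nat.Choose.Dvd
import Mathlib.Algebra.Ring.GeomSum
import Mathlib.Tactic.Ring
import Mathlib.Tactic.LinearCombination

/-!
A `p`-group is cyclic, or has a normal elementary abelian subgroup of order `p ^ 2`, or is a 2-group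
with a cyclic subgroup of index two inverted modulo four.
-/

set_option autoImplicit false
set_option linter.style.haveILetI false

namespace Cfsg.Agent.Baer

open Finset

variable {p : ℕ} [hp : Fact p.Prime] {P : Type*} [Group P] [Finite P]

/-- A plane: a central element of order `p` and a second one moved only along it. -/
def HasPlane (p : ℕ) (P : Type*) [Group P] : Prop :=
  ∃ z t : P, z ∈ Subgroup.center P ∧ orderOf z = p ∧ orderOf t = p ∧ t ∉ Subgroup.zpowers z ∧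
    ∀ h : P, ∃ i : ℤ, h * t * h⁻¹ = z ^ i * t

theorem exists_central_prime (hP : IsPGroup p P) {N : Subgroup P} [N.Normal] (hN : N ≠ ⊥) :
    ∃ z ∈ N, orderOf z = p ∧ z ∈ Subgroup.center P := by
  haveI : Group.IsNilpotent P := hP.isNilpotent
  set M := N ⊓ Subgroup.center P with hM
  have hne : M ≠ ⊥ := Cfsg.Agent.SolvStruct.inf_center_ne_bot hN
  haveI : Nontrivial M := (Subgroup.nontrivial_iff_ne_bot M).2 hne
  obtain ⟨n, hn0, hn⟩ := (IsPGroup.nontrivial_iff_card (hP.to_subgroup M)).1 inferInstance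
  obtain ⟨z, hz⟩ := exists_prime_orderOf_dvd_card' (G := M) p (hn ▸ dvd_pow_self p hn0.ne')
  exact ⟨z, z.2.1, by rw [Subgroup.orderOf_coe, hz], z.2.2⟩

theorem hasPlane_of_not_cyclic (hP : IsPGroup p P) {A : Subgroup P} [A.Normal]
    (hA : IsMulCommutative A) (hc : ¬ IsCyclic A) : HasPlane p P := by
  haveI := hA
  obtain ⟨q, E, hq, hE, hexp⟩ := CoprimeAct.exists_elementary_of_not_isCyclic hc
  have hqp : q = p := by
    obtain ⟨k, hk⟩ := IsPGroup.iff_card.1 ((hP.to_subgroup A).to_subgroup E)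
    have : q ∣ p ^ k := hk ▸ hE ▸ dvd_pow_self q two_ne_zero
    exact (Nat.prime_dvd_prime_iff_eq hq hp.out).1 (hq.dvd_of_dvd_pow this)
  subst hqp
  let Ω : Subgroup P :=
    { carrier := {x | x ∈ A ∧ x ^ q = 1}
      one_mem' := ⟨one_mem A, one_pow q⟩
      mul_mem' := fun {x y} hx hy => ⟨mul_mem hx.1 hy.1, by
        rw [(show Commute x y from setLike_mul_comm (s := A) hx.1 hy.1).mul_pow, hx.2, hy.2, one_mul]⟩
      inv_mem' := fun {x} hx => ⟨inv_mem hx.1, by rw [inv_pow, hx.2, inv_one]⟩ }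
  haveI hΩ : Ω.Normal := ⟨fun x hx g => ⟨Subgroup.Normal.conj_mem inferInstance x hx.1 g, by
    rw [conj_pow, hx.2, mul_one, mul_inv_cancel]⟩⟩
  have hEΩ : E.map A.subtype ≤ Ω := by
    rintro _ ⟨e, he, rfl⟩
    refine ⟨e.2, ?_⟩
    have := congrArg Subtype.val (hexp ⟨e, he⟩)
    exact congrArg Subtype.val this
  have hΩcard : q ^ 2 ≤ Nat.card Ω := by
    rw [← hE, ← Subgroup.card_map_of_injective A.subtype_injective (K := E)]
    exact Subgroup.card_le_of_le hEΩ
  have h1 : 1 < q := hp.out.one_lt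
  obtain ⟨z, hzΩ, hz, hzc⟩ := exists_central_prime hP (N := Ω) (fun e => by
    rw [e, Subgroup.card_bot] at hΩcard; nlinarith)
  haveI hZn : (Subgroup.zpowers z).Normal := ⟨fun a ha g => by
    rw [Subgroup.mem_center_iff.1 (Subgroup.zpowers_le.2 hzc ha) g, mul_inv_cancel_right]; exact ha⟩
  set π := QuotientGroup.mk' (Subgroup.zpowers z) with hπ
  haveI : (Ω.map π).Normal := Subgroup.Normal.map hΩ π (QuotientGroup.mk'_surjective _)
  have hne : Ω.map π ≠ ⊥ := by
    intro e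
    rw [Subgroup.map_eq_bot_iff, QuotientGroup.ker_mk'] at e
    have := (Subgroup.card_le_of_le e).trans' hΩcard
    rw [Nat.card_zpowers, hz] at this
    nlinarith
  obtain ⟨w, ⟨t, ht, rfl⟩, hwo, hwc⟩ := exists_central_prime (hP.to_quotient _) hne
  have htz : t ∉ Subgroup.zpowers z := fun h => by
    rw [show π t = 1 from (QuotientGroup.eq_one_iff t).2 h, orderOf_one] at hwo
    exact hp.out.ne_one hwo.symm
  refine ⟨z, t, hzc, hz, orderOf_eq_prime ht.2 fun h => htz (h ▸ one_mem _), htz, fun h => ?_⟩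
  have h2 : π (h * t * h⁻¹ * t⁻¹) = 1 := by
    simp only [map_mul, map_inv, Subgroup.mem_center_iff.1 hwc (π h), mul_inv_cancel_right,
      mul_inv_cancel]
  obtain ⟨i, hi⟩ := Subgroup.mem_zpowers_iff.1 ((QuotientGroup.eq_one_iff _).1 h2)
  exact ⟨i, by rw [hi]; group⟩

omit [Finite P] in
theorem conj_pow_exp {a g : P} {j : ℤ} (h : g * a * g⁻¹ = a ^ j) (x : ℤ) :
    ∀ k : ℕ, g ^ k * a ^ x * (g ^ k)⁻¹ = a ^ (j ^ k * x) := by
  intro k
  induction k with
  | zero => simp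
  | succ k ih =>
    calc g ^ (k + 1) * a ^ x * (g ^ (k + 1))⁻¹
        = g * (g ^ k * a ^ x * (g ^ k)⁻¹) * g⁻¹ := by rw [pow_succ']; group
      _ = (g * a * g⁻¹) ^ (j ^ k * x) := by rw [ih, conj_zpow]
      _ = _ := by rw [h, ← zpow_mul, pow_succ', mul_assoc]

omit [Finite P] in
theorem mul_pow_exp {a g : P} {j : ℤ} (h : g * a * g⁻¹ = a ^ j) (l : ℤ) :
    ∀ k : ℕ, (a ^ l * g) ^ k = a ^ (l * ∑ i ∈ range k, j ^ i) * g ^ k := by
  intro k
  induction k with
  | zero => simp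
  | succ k ih =>
    rw [pow_succ, ih, sum_range_succ, mul_add, zpow_add, mul_comm l (j ^ k),
      ← conj_pow_exp h l k, pow_succ]
    group

/-- The geometric sum. -/
theorem geom_unit {j : ℤ} (h1 : (p : ℤ) ∣ j - 1) (h4 : p = 2 → (4 : ℤ) ∣ j - 1) :
    ∃ u : ℤ, ∑ i ∈ range p, j ^ i = p * u ∧ IsCoprime u (p : ℤ) := by
  have hpZ : Prime (p : ℤ) := Nat.prime_iff_prime_int.1 hp.out
  rcases hp.out.eq_two_or_odd with h2 | h2
  · subst h2
    obtain ⟨c, hc⟩ := h4 rfl
    refine ⟨1 + 2 * c, ?_, ⟨1, -c, by push_cast; ring⟩⟩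
    simp [sum_range_succ]
    linear_combination hc
  obtain ⟨x, hx⟩ := h1
  have hj : j = 1 + p * x := by linear_combination hx
  have key : ∀ k : ℕ, (p : ℤ) ^ 2 ∣ (∑ i ∈ range k, j ^ i) - k - p * x * ((k.choose 2 : ℕ) : ℤ) := by
    intro k
    induction k with
    | zero => simp
    | succ k ih =>
      have hpow : (p : ℤ) ^ 2 ∣ j ^ k - 1 - k * (p * x) := by
        clear ih
        induction k with
        | zero => simp
        | succ k ih =>
          obtain ⟨d, hd⟩ := ih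
          refine ⟨d * j + k * x ^ 2, ?_⟩
          push_cast
          rw [pow_succ]
          linear_combination j * hd + (1 + (k : ℤ) * (p * x)) * hj
      obtain ⟨d, hd⟩ := ih
      obtain ⟨e, he⟩ := hpow
      refine ⟨d + e, ?_⟩
      rw [sum_range_succ, Nat.choose_succ_succ', Nat.choose_one_right]
      push_cast
      linear_combination hd + he
  obtain ⟨d, hd⟩ := key p
  obtain ⟨c, hc⟩ := hp.out.dvd_choose_self (k := 2) two_ne_zero
    (lt_of_le_of_ne hp.out.two_le fun e => by rw [← e] at h2; omega)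
  rw [hc] at hd
  push_cast at hd
  refine ⟨1 + p * (d + x * c), by linear_combination hd, ⟨1, -(d + x * c), by ring⟩⟩

omit [Finite P] in
theorem zpow_eq_iff {a : P} {n : ℕ} (ha : orderOf a = n) {x y : ℤ} :
    a ^ x = a ^ y ↔ (n : ℤ) ∣ x - y := by
  rw [← ha, orderOf_dvd_iff_zpow_eq_one, zpow_sub, mul_inv_eq_one]

omit [Finite P] in
/-- A plane from a twisted element outside a self-centralizing cyclic subgroup. -/
theorem hasPlane_of_cyclic {a g : P} {m : ℕ} {j : ℤ} (ha : orderOf a = p ^ m)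
    (hC : Subgroup.centralizer (Subgroup.zpowers a : Set P) ≤ Subgroup.zpowers a)
    [(Subgroup.zpowers a).Normal] (hP : IsPGroup p P)
    (hg : g ∉ Subgroup.zpowers a) (hgp : g ^ p ∈ Subgroup.zpowers a) (hj : g * a * g⁻¹ = a ^ j)
    (h1 : (p : ℤ) ∣ j - 1) (h4 : p = 2 → (4 : ℤ) ∣ j - 1) : HasPlane p P := by
  have hcomm : ∀ x : P, x * a = a * x → x ∈ Subgroup.zpowers a := fun x hx =>
    hC (Subgroup.mem_centralizer_iff.2 fun y hy => by
      obtain ⟨i, rfl⟩ := Subgroup.mem_zpowers_iff.1 hy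
      exact ((show Commute x a from hx).zpow_right i).eq.symm)
  have hpZ : Prime (p : ℤ) := Nat.prime_iff_prime_int.1 hp.out
  have hjn : ¬ ((p ^ m : ℕ) : ℤ) ∣ j - 1 := fun h => hg (hcomm g (by
    rw [(zpow_eq_iff ha).2 h, zpow_one] at hj
    exact mul_inv_eq_iff_eq_mul.1 hj))
  have hm : m ≠ 0 := fun e => hjn (by simp [e])
  obtain ⟨m, rfl⟩ : ∃ k, m = k + 1 := ⟨m - 1, by omega⟩
  obtain ⟨i, hi⟩ := Subgroup.mem_zpowers_iff.1 hgp
  obtain ⟨u, hu, hcop⟩ := geom_unit h1 h4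
  -- `j` is congruent to one modulo `p ^ m`
  have hjp : ((p ^ (m + 1) : ℕ) : ℤ) ∣ j ^ p - 1 := by
    rw [← zpow_eq_iff ha, zpow_one]
    have := conj_pow_exp hj 1 p
    rw [mul_one, zpow_one, ← hi] at this
    rw [← this]
    exact mul_inv_eq_iff_eq_mul.2 (Commute.zpow_left (Commute.refl a) i).eq
  have hjm : ((p ^ m : ℕ) : ℤ) ∣ j - 1 := by
    have h2 : j ^ p - 1 = (p : ℤ) * ((j - 1) * u) := by
      rw [← geom_sum_mul j p, hu]; ring
    rw [h2] at hjp
    push_cast at hjp ⊢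
    rw [pow_succ', mul_dvd_mul_iff_left hpZ.ne_zero] at hjp
    exact (hcop.symm.pow_left (m := m)).dvd_of_dvd_mul_right hjp
  -- the exponent of `g ^ p` is divisible by `p`
  obtain ⟨i', hi'⟩ : (p : ℤ) ∣ i := by
    by_contra hpi
    refine hjn ?_
    have h2 : ((p ^ (m + 1) : ℕ) : ℤ) ∣ j * i - i := by
      rw [← zpow_eq_iff ha]
      have := conj_pow_exp hj i 1
      rw [pow_one, pow_one, hi] at this
      rw [← this, hi]
      group
    rw [show j * i - i = i * (j - 1) by ring] at h2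
    push_cast at h2 ⊢
    exact ((hpZ.coprime_iff_not_dvd.2 hpi).pow_left (m := m + 1)).dvd_of_dvd_mul_left h2
  obtain ⟨v, w, hvw⟩ := (hcop.pow_right (n := m + 1))
  set t := a ^ (-(i' * v)) * g with ht
  have htA : t ∉ Subgroup.zpowers a := fun h => hg (by
    have h2 := mul_mem (inv_mem (zpow_mem (Subgroup.mem_zpowers a) (-(i' * v)))) h
    rwa [ht, inv_mul_cancel_left] at h2)
  have htp : t ^ p = 1 := by
    rw [ht, mul_pow_exp hj, hu, ← hi, ← zpow_add, ← zpow_zero a, zpow_eq_iff ha]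
    refine ⟨p * i' * w, ?_⟩
    push_cast
    rw [hi']
    linear_combination (-(p : ℤ) * i') * hvw
  have htj : t * a * t⁻¹ = a ^ j := by
    rw [ht, ← hj]; simp only [mul_inv_rev, ← zpow_neg]
    rw [show g * a * g⁻¹ = a ^ (-(i' * v)) * (g * a * g⁻¹) * a ^ (- -(i' * v)) by
      rw [hj, ← zpow_add, ← zpow_add]; congr 1; ring]
    group
  set z := a ^ (p ^ m) with hz
  have hzo : orderOf z = p := by
    rw [hz, orderOf_pow' _ (pow_ne_zero _ hp.out.ne_zero), ha,
      Nat.gcd_eq_right (pow_dvd_pow p (Nat.le_succ m)), pow_succ, Nat.mul_div_cancel_left _ (pow_pos hp.out.pos m)]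
  have hexp : ∀ h : P, ∃ jh : ℤ, h * a * h⁻¹ = a ^ jh := fun h => by
    obtain ⟨jh, hjh⟩ := Subgroup.mem_zpowers_iff.1
      (Subgroup.Normal.conj_mem inferInstance a (Subgroup.mem_zpowers a) h)
    exact ⟨jh, hjh.symm⟩
  have hzc : z ∈ Subgroup.center P := by
    rw [Subgroup.mem_center_iff]
    intro h
    obtain ⟨jh, hjh⟩ := hexp h
    obtain ⟨k, hk⟩ := hP h
    have h2 : ((p ^ (m + 1) : ℕ) : ℤ) ∣ jh ^ (p ^ k) - 1 := by
      rw [← zpow_eq_iff ha, zpow_one]
      have := conj_pow_exp hjh 1 (p ^ k)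
      rw [mul_one, zpow_one, hk] at this
      rw [← this]; group
    have h3 : (p : ℤ) ∣ jh - 1 := by
      have h4 : ((jh ^ (p ^ k) - 1 : ℤ) : ZMod p) = 0 := (ZMod.intCast_zmod_eq_zero_iff_dvd _ _).2
        (dvd_trans (by push_cast; exact dvd_pow_self _ (Nat.succ_ne_zero m)) h2)
      rw [← ZMod.intCast_zmod_eq_zero_iff_dvd]
      push_cast at h4 ⊢
      rwa [ZMod.pow_card_pow] at h4
    refine mul_inv_eq_iff_eq_mul.1 ?_
    rw [hz, ← zpow_natCast, ← conj_zpow, hjh, ← zpow_mul, zpow_eq_iff ha]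
    obtain ⟨c, hc⟩ := h3
    refine ⟨c, ?_⟩
    push_cast
    linear_combination ((p : ℤ) ^ m) * hc
  refine ⟨z, t, hzc, hzo, orderOf_eq_prime htp fun h => htA (h ▸ one_mem _),
    fun h => htA (Subgroup.zpowers_le.2 (pow_mem (Subgroup.mem_zpowers a) _) h), fun h => ?_⟩
  obtain ⟨jh, hjh⟩ := hexp h
  have hk : h * t * h⁻¹ * t⁻¹ ∈ Subgroup.zpowers a := hcomm _ (by
    refine mul_inv_eq_iff_eq_mul.1 ?_
    have e1 : t⁻¹ * a ^ j * t = a := by rw [← htj]; group
    have e2 : h⁻¹ * a ^ jh * h = a := by rw [← hjh]; group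
    have e3 : t * a ^ jh * t⁻¹ = a ^ (j * jh) := by rw [← conj_zpow, htj, ← zpow_mul]
    have e4 : h * a ^ j * h⁻¹ = a ^ (j * jh) := by rw [← conj_zpow, hjh, ← zpow_mul, mul_comm]
    calc h * t * h⁻¹ * t⁻¹ * a * (h * t * h⁻¹ * t⁻¹)⁻¹
        = h * (t * (h⁻¹ * (t⁻¹ * a * t) * h) * t⁻¹) * h⁻¹ := by group
      _ = a := by
        have hat : t * (t⁻¹ * a * t) * t⁻¹ = a := by group
        have hah : t * (h⁻¹ * (t⁻¹ * a * t) * h) * t⁻¹ = h⁻¹ * a * h := by
          obtain ⟨k1, hk1⟩ := Subgroup.mem_zpowers_iff.1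
            (Subgroup.Normal.conj_mem inferInstance a (Subgroup.mem_zpowers a) t⁻¹)
          obtain ⟨k2, hk2⟩ := Subgroup.mem_zpowers_iff.1
            (Subgroup.Normal.conj_mem inferInstance a (Subgroup.mem_zpowers a) h⁻¹)
          rw [inv_inv] at hk1 hk2
          calc t * (h⁻¹ * (t⁻¹ * a * t) * h) * t⁻¹
              = t * (h⁻¹ * a ^ k1 * h) * t⁻¹ := by rw [hk1]
            _ = t * (h⁻¹ * a * h) ^ k1 * t⁻¹ := by
                have := conj_zpow (a := h⁻¹) (b := a) (i := k1)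
                rw [inv_inv] at this; rw [this]
            _ = (t * a * t⁻¹) ^ (k1 * k2) := by rw [← hk2, ← zpow_mul, conj_zpow, mul_comm]
            _ = ((t * a * t⁻¹) ^ k1) ^ k2 := by rw [zpow_mul]
            _ = (t * a ^ k1 * t⁻¹) ^ k2 := by rw [conj_zpow]
            _ = h⁻¹ * a * h := by rw [hk1, hat, hk2]
        rw [hah]; group)
  obtain ⟨k, hk⟩ := Subgroup.mem_zpowers_iff.1 hk
  have hht : h * t * h⁻¹ = a ^ k * t := by rw [hk]; group
  have h2 : (a ^ k * t) ^ p = 1 := by rw [← hht, conj_pow, htp, mul_one, mul_inv_cancel]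
  rw [mul_pow_exp htj, hu, htp, mul_one, ← zpow_zero a, zpow_eq_iff ha, sub_zero] at h2
  push_cast at h2
  rw [show k * ((p : ℤ) * u) = p * (k * u) by ring, pow_succ', mul_dvd_mul_iff_left hpZ.ne_zero] at h2
  obtain ⟨c, hc⟩ := (hcop.symm.pow_left (m := m)).dvd_of_dvd_mul_right h2
  exact ⟨c, by rw [hht, hc, hz, ← zpow_natCast, ← zpow_mul]; push_cast; rfl⟩

/-- The three types of `p`-groups. -/
theorem trichotomy (hP : IsPGroup p P) :
    IsCyclic P ∨ HasPlane p P ∨ (p = 2 ∧ ∃ (a u : P) (j m : ℕ), 2 ≤ m ∧ orderOf a = 2 ^ m ∧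
      (Subgroup.zpowers a).index = 2 ∧ u ∉ Subgroup.zpowers a ∧ j % 4 = 3 ∧
        u * a * u⁻¹ = a ^ j) := by
  haveI : Group.IsNilpotent P := hP.isNilpotent
  obtain ⟨A, hAn, hAc, hC⟩ :=
    Cfsg.Agent.OddOrder.Nilp.exists_normal_abelian_self_centralizing (G := P)
  haveI := hAn
  by_cases hcyc : IsCyclic A
  swap
  · exact Or.inr (Or.inl (hasPlane_of_not_cyclic hP hAc hcyc))
  haveI := hcyc
  obtain ⟨a, rfl⟩ := A.isCyclic_iff_exists_zpowers_eq_top.1 hcyc
  obtain ⟨m, hm⟩ := IsPGroup.iff_orderOf.1 hP a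
  have hcomm : ∀ x : P, x * a = a * x → x ∈ Subgroup.zpowers a := fun x hx => by
    rw [← hC]
    refine Subgroup.mem_centralizer_iff.2 fun y hy => ?_
    obtain ⟨i, rfl⟩ := Subgroup.mem_zpowers_iff.1 hy
    exact ((show Commute x a from hx).zpow_right i).eq.symm
  have hexp : ∀ g : P, ∃ j : ℕ, g * a * g⁻¹ = a ^ j := fun g => by
    obtain ⟨j, hj⟩ := mem_powers_iff_mem_zpowers.2
      (hAn.conj_mem a (Subgroup.mem_zpowers a) g)
    exact ⟨j, hj.symm⟩
  -- a good element gives a plane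
  have hgood : ∀ (g : P) (j : ℤ), g ∉ Subgroup.zpowers a → g * a * g⁻¹ = a ^ j → (p : ℤ) ∣ j - 1 →
      (p = 2 → (4 : ℤ) ∣ j - 1) → HasPlane p P := by
    intro g j hg hj h1 h4
    classical
    have hex : ∃ k, g ^ p ^ k ∈ Subgroup.zpowers a := by
      obtain ⟨k, hk⟩ := hP g
      exact ⟨k, hk ▸ one_mem _⟩
    have hk0 : Nat.find hex ≠ 0 := fun e => hg (by simpa [e] using Nat.find_spec hex)
    obtain ⟨k, hk⟩ := Nat.exists_eq_succ_of_ne_zero hk0
    have hspec := Nat.find_spec hex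
    rw [hk, pow_succ, pow_mul] at hspec
    refine hasPlane_of_cyclic hm hC.le hP (Nat.find_min hex (by omega : k < Nat.find hex)) hspec
      (by simpa using conj_pow_exp hj 1 (p ^ k)) ?_ fun h => ?_
    · exact h1.trans (sub_one_dvd_pow_sub_one j (p ^ k))
    · exact (h4 h).trans (sub_one_dvd_pow_sub_one j (p ^ k))
  by_cases htop : Subgroup.zpowers a = ⊤
  · exact Or.inl (isCyclic_iff_exists_zpowers_eq_top.2 ⟨a, htop⟩)
  obtain ⟨g, -, hg⟩ := SetLike.exists_of_lt (lt_top_iff_ne_top.2 htop)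
  have hmod : ∀ (g : P) (j : ℕ), g * a * g⁻¹ = a ^ j → m ≠ 0 → (p : ℤ) ∣ (j : ℤ) - 1 := by
    intro g j hj hm0
    obtain ⟨k, hk⟩ := hP g
    have h2 : ((p ^ m : ℕ) : ℤ) ∣ (j : ℤ) ^ (p ^ k) - 1 := by
      rw [← zpow_eq_iff hm, zpow_one]
      have := conj_pow_exp (a := a) (g := g) (j := (j : ℤ)) (by rw [zpow_natCast]; exact hj) 1 (p ^ k)
      rw [mul_one, zpow_one, hk] at this
      rw [← this]; group
    have h4 : (((j : ℤ) ^ (p ^ k) - 1 : ℤ) : ZMod p) = 0 := (ZMod.intCast_zmod_eq_zero_iff_dvd _ _).2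
      (dvd_trans (by push_cast; exact dvd_pow_self _ hm0) h2)
    rw [← ZMod.intCast_zmod_eq_zero_iff_dvd]
    push_cast at h4 ⊢
    rwa [ZMod.pow_card_pow] at h4
  have htriv : m = 0 → False := fun e => by
    rw [e, pow_zero, orderOf_eq_one_iff] at hm
    exact hg (hcomm g (by rw [hm]; group))
  by_cases h2 : p = 2
  swap
  · obtain ⟨j, hj⟩ := hexp g
    exact Or.inr (Or.inl (hgood g j hg (by rw [zpow_natCast]; exact hj)
      (hmod g j hj fun e => htriv e) fun h => absurd h h2))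
  subst h2
  by_cases hall : ∀ (g : P) (j : ℕ), g ∉ Subgroup.zpowers a → g * a * g⁻¹ = a ^ j → j % 4 = 3
  swap
  · push Not at hall
    obtain ⟨g, j, hg, hj, hj4⟩ := hall
    have h1 := hmod g j hj fun e => htriv e
    refine Or.inr (Or.inl (hgood g j hg (by rw [zpow_natCast]; exact hj) h1 fun _ => ?_))
    push_cast at h1
    omega
  refine Or.inr (Or.inr ⟨rfl, ?_⟩)
  obtain ⟨j, hj⟩ := hexp g
  have hj3 := hall g j hg hj
  refine ⟨a, g, j, m, ?_, hm, ?_, hg, hj3, hj⟩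
  · by_contra hlt
    interval_cases m
    · exact htriv rfl
    · refine hg (hcomm g (mul_inv_eq_iff_eq_mul.1 ?_))
      rw [hj, ← zpow_natCast]
      nth_rewrite 2 [← zpow_one a]
      rw [zpow_eq_iff hm]
      push_cast
      omega
  · rw [Subgroup.index_eq_two_iff]
    refine ⟨g, fun b => ?_⟩
    by_cases hb : b ∈ Subgroup.zpowers a
    · exact Or.inr ⟨hb, fun h => hg (by
        have := mul_mem (inv_mem hb) h; rwa [inv_mul_cancel_left] at this)⟩
    · refine Or.inl ⟨?_, hb⟩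
      by_contra hbg
      obtain ⟨jb, hjb⟩ := hexp b
      have h3 := hall b jb hb hjb
      have h9 := hall (b * g) (jb * j) hbg (by
        rw [mul_inv_rev, pow_mul, ← hjb, conj_pow, ← hj]; group)
      rw [Nat.mul_mod, h3, hj3] at h9
      omega

end Cfsg.Agent.Baer
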