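import Cfsg.Agent.Lib.Recog.SchurRing
import Cfsg.Agent.Lib.Perm.Burnside
import Mathlib.GroupTheory.GroupAction.Primitive
import Mathlib.GroupTheory.Solvable

/-!
Perfect groups with a subgroup of prime index, or a maximal subgroup complemented by a cyclic group,
have even order.
-/

set_option autoImplicit false
set_option linter.style.haveILetI false
set_option linter.unusedSectionVars false

namespace Cfsg.Agent.Baer

open MulAction

variable {S : Type*} [Group S] [Finite S]

theorem not_index_two (hperf : commutator S = ⊤) (M : Subgroup S) : M.index ≠ 2 := by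
  intro h
  haveI := M.normal_of_index_eq_two h
  haveI : Fact (Nat.Prime 2) := ⟨Nat.prime_two⟩
  haveI : IsCyclic (S ⧸ M) := isCyclic_of_prime_card (p := 2) (by rw [← h]; rfl)
  have hle : commutator S ≤ M := by
    rw [commutator_def, Subgroup.commutator_le]
    intro a _ b _
    rw [← QuotientGroup.eq_one_iff, ← QuotientGroup.mk'_apply, map_commutatorElement,
      commutatorElement_eq_one_iff_commute]
    exact IsCyclic.commutative.1.comm _ _
  rw [hperf, top_le_iff] at hle
  rw [hle, Subgroup.index_top] at h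
  omega

theorem two_dvd_card_of_two_transitive {G Ω : Type*} [Group G] [Finite G] [MulAction G Ω]
    [Nontrivial Ω] (h : IsMultiplyPretransitive G Ω 2) : 2 ∣ Nat.card G := by
  obtain ⟨a, b, hab⟩ := exists_pair_ne Ω
  obtain ⟨g, hga, hgb⟩ := is_two_pretransitive_iff.1 h hab hab.symm
  by_contra h2
  have hsq : g ^ 2 ∈ stabilizer G a := by
    rw [mem_stabilizer_iff, pow_two, mul_smul, hga, hgb]
  have hodd : (orderOf g).Coprime 2 :=
    ((Nat.prime_two.coprime_iff_not_dvd).2 fun hd => h2 (hd.trans (orderOf_dvd_natCard g))).symm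
  obtain ⟨k, hk⟩ := exists_pow_eq_self_of_coprime hodd.symm
  have : g ∈ stabilizer G a := hk ▸ pow_mem hsq k
  exact hab (by rw [← hga]; exact this.symm)

theorem range_not_solvable (hperf : commutator S = ⊤) {Ω : Type*} [MulAction S Ω]
    [IsPretransitive S Ω] [Nontrivial Ω] :
    ¬ Group.IsSolvable (toPermHom S Ω).range := by
  intro hsol
  set G := (toPermHom S Ω).range
  have hG : commutator G = ⊤ := by
    rw [commutator_def, ← MonoidHom.range_eq_top.2 (toPermHom S Ω).rangeRestrict_surjective,
      MonoidHom.range_eq_map, ← Subgroup.map_commutator, ← commutator_def, hperf]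
  haveI : Nontrivial G := by
    by_contra hn
    rw [not_nontrivial_iff_subsingleton] at hn
    obtain ⟨a, b, hab⟩ := exists_pair_ne Ω
    obtain ⟨s, hs⟩ := exists_smul_eq S a b
    have h1 : (toPermHom S Ω).rangeRestrict s = 1 := Subsingleton.elim _ _
    apply hab
    rw [← hs]
    exact (congrArg (fun e : G => (e : Equiv.Perm Ω) a) h1).symm
  exact (Group.IsSolvable.commutator_lt_top_of_nontrivial G).ne hG

theorem range_pretransitive {Ω : Type*} [MulAction S Ω] [IsPretransitive S Ω] :
    IsPretransitive (toPermHom S Ω).range Ω :=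
  ⟨fun a b => by
    obtain ⟨s, hs⟩ := exists_smul_eq S a b
    exact ⟨(toPermHom S Ω).rangeRestrict s, hs⟩⟩

theorem range_faithful {Ω : Type*} [MulAction S Ω] : FaithfulSMul (toPermHom S Ω).range Ω :=
  ⟨fun {x y} h => Subtype.ext (Equiv.ext h)⟩

theorem two_dvd_card_of_prime_degree (hperf : commutator S = ⊤) {Ω : Type*} [MulAction S Ω]
    [IsPretransitive S Ω] {p : ℕ} [Fact p.Prime] (hΩ : Nat.card Ω = p) : 2 ∣ Nat.card S := by
  haveI : Finite Ω := Nat.finite_of_card_ne_zero (hΩ ▸ (Fact.out : p.Prime).ne_zero)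
  haveI : Nontrivial Ω := Finite.one_lt_card_iff_nontrivial.1 (hΩ ▸ (Fact.out : p.Prime).one_lt)
  haveI := range_pretransitive (S := S) (Ω := Ω)
  haveI := range_faithful (S := S) (Ω := Ω)
  rcases Cfsg.Agent.PermPrime.burnside (G := (toPermHom S Ω).range) hΩ with h | h
  · exact absurd h (range_not_solvable hperf)
  · exact (two_dvd_card_of_two_transitive h).trans
      (Subgroup.card_range_dvd (toPermHom S Ω))

/-- A maximal subgroup complemented by a cyclic subgroup. -/
theorem two_dvd_card_of_cyclic_transitive (hperf : commutator S = ⊤) (M : Subgroup S)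
    (hM : IsCoatom M) (C : Subgroup S) [IsCyclic C] (hC : ∀ g : S, ∃ c ∈ C, c⁻¹ * g ∈ M) :
    2 ∣ Nat.card S := by
  haveI : Nontrivial (S ⧸ M) := by
    rw [← Finite.one_lt_card_iff_nontrivial]
    exact lt_of_le_of_ne (Nat.pos_of_ne_zero (Subgroup.index_ne_zero_of_finite (H := M)))
      fun h => hM.1 (Subgroup.index_eq_one.1 h.symm)
  by_cases hpr : (Nat.card (S ⧸ M)).Prime
  · haveI := Fact.mk hpr
    exact two_dvd_card_of_prime_degree hperf (Ω := S ⧸ M) rfl
  set φ := toPermHom S (S ⧸ M) with hφ
  haveI := range_pretransitive (S := S) (Ω := S ⧸ M)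
  have hprim : IsPreprimitive S (S ⧸ M) := by
    rw [← isCoatom_stabilizer_iff_preprimitive S ((1 : S) : S ⧸ M), stabilizer_quotient]
    exact hM
  let f : S ⧸ M →ₑ[φ.rangeRestrict] S ⧸ M :=
    { toFun := id
      map_smul' := fun s x => rfl }
  have hprim' : IsPreprimitive φ.range (S ⧸ M) :=
    (isPreprimitive_congr (f := f) φ.rangeRestrict_surjective Function.bijective_id).1 hprim
  set C' := C.map φ.rangeRestrict with hC'
  haveI : IsCyclic C' := isCyclic_of_surjective (φ.rangeRestrict.subgroupMap C)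
    (φ.rangeRestrict.subgroupMap_surjective C)
  have horb : ∀ y : S ⧸ M, ∃ c : C', c • ((1 : S) : S ⧸ M) = y := by
    intro y
    obtain ⟨g, rfl⟩ := QuotientGroup.mk_surjective y
    obtain ⟨c, hc, hcg⟩ := hC g
    refine ⟨⟨φ.rangeRestrict c, ⟨c, hc, rfl⟩⟩, ?_⟩
    change c • ((1 : S) : S ⧸ M) = (g : S ⧸ M)
    rw [MulAction.Quotient.smul_mk, smul_eq_mul, mul_one, QuotientGroup.eq]
    exact hcg
  have htr : IsPretransitive C' (S ⧸ M) := ⟨fun x y => by
    obtain ⟨c, hc⟩ := horb x
    obtain ⟨d, hd⟩ := horb y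
    exact ⟨d * c⁻¹, by rw [mul_smul, ← hc, inv_smul_smul, hd]⟩⟩
  have hfree : ∀ x : S ⧸ M, stabilizer C' x = ⊥ := by
    intro x
    rw [eq_bot_iff]
    intro c hc
    rw [Subgroup.mem_bot]
    apply Subtype.ext
    apply Subtype.ext
    refine Equiv.ext fun y => ?_
    obtain ⟨d, rfl⟩ := htr.exists_smul_eq x y
    change c • d • x = d • x
    rw [← mul_smul, show c * d = d * c from IsCyclic.commutative.1.comm c d, mul_smul,
      mem_stabilizer_iff.1 hc]
  exact (two_dvd_card_of_two_transitive
    (Cfsg.Agent.SchurRing.two_transitive_of_regular_cyclic hprim' C' htr hfree hpr)).trans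
      (Subgroup.card_range_dvd φ)

end Cfsg.Agent.Baer
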