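import Mathlib.LinearAlgebra.Determinant
import Mathlib.LinearAlgebra.Matrix.Determinant.Basic
import Mathlib.LinearAlgebra.FiniteDimensional.Defs
import Mathlib.LinearAlgebra.Basis.VectorSpace
import Mathlib.FieldTheory.Finite.Basic
import Mathlib.RingTheory.Adjoin.Basic
import Mathlib.GroupTheory.Sylow
import Mathlib.GroupTheory.Nilpotent
import Mathlib.GroupTheory.Solvable
import Mathlib.RingTheory.LittleWedderburn

/-!
Two-dimensional coprime linear groups with all orbit sizes powers of two, and irreducible cyclic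
groups twisted by an element congruent to three modulo four.
-/

set_option autoImplicit false
set_option linter.style.haveILetI false
set_option linter.unusedSectionVars false

namespace Cfsg.Agent.Baer

open MulAction

variable {q : ℕ} [hq : Fact q.Prime] {V : Type*} [AddCommGroup V] [Module (ZMod q) V] [Finite V]
  {S : Type*} [Group S] [Finite S] [DistribMulAction S V]

/-- The linear map of an element. -/
def linMap (q : ℕ) {V : Type*} [AddCommGroup V] [Module (ZMod q) V] {S : Type*} [Monoid S]
    [DistribMulAction S V] : S →* Module.End (ZMod q) V where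
  toFun g := (DistribSMul.toAddMonoidHom V g).toZModLinearMap q
  map_one' := LinearMap.ext fun v => one_smul S v
  map_mul' g h := LinearMap.ext fun v => mul_smul g h v

theorem linMap_apply (g : S) (v : V) : linMap q g v = g • v := rfl

theorem det_linMap (hperf : commutator S = ⊤) (g : S) :
    LinearMap.det (linMap (V := V) q g) = 1 := by
  let δ : S →* (ZMod q)ˣ := (LinearMap.det.comp (linMap (V := V) q)).toHomUnits
  have h : commutator S ≤ δ.ker := Abelianization.commutator_subset_ker δ
  rw [hperf] at h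
  have := congrArg Units.val (MonoidHom.mem_ker.1 (h (Subgroup.mem_top g)))
  exact this

theorem not_perfect_small [Nontrivial S] (hperf : commutator S = ⊤)
    (hcop : (Nat.card S).Coprime q) (hfaith : ∀ g : S, (∀ v : V, g • v = v) → g = 1)
    (hcard : Nat.card V ≤ q ^ 2) [Nontrivial V]
    (horb : ∀ v : V, ∃ a, (stabilizer S v).index = 2 ^ a) : False := by
  haveI : Module.Finite (ZMod q) V := Module.Finite.of_finite
  have hn : Module.finrank (ZMod q) V ≤ 2 := by
    rw [Module.natCard_eq_pow_finrank (K := ZMod q), Nat.card_zmod] at hcard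
    exact (Nat.pow_le_pow_iff_right hq.out.one_lt).1 hcard
  have key : ∀ g : S, ∀ v : V, v ≠ 0 → g • v = v → g = 1 := by
    intro g v hv hgv
    by_cases hspan : ∀ w : V, w ∈ Submodule.span (ZMod q) {v}
    · refine hfaith g fun w => ?_
      obtain ⟨c, rfl⟩ := Submodule.mem_span_singleton.1 (hspan w)
      rw [← linMap_apply (q := q), map_smul, linMap_apply, hgv]
    push Not at hspan
    obtain ⟨v', hv'⟩ := hspan
    have hli : LinearIndependent (ZMod q) ![v, v'] := by
      rw [LinearIndependent.pair_iff' hv]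
      exact fun c hc => hv' (Submodule.mem_span_singleton.2 ⟨c, hc⟩)
    have h2 : Module.finrank (ZMod q) V = 2 :=
      le_antisymm hn (by simpa using hli.fintype_card_le_finrank)
    set b := basisOfLinearIndependentOfCardEqFinrank hli (by simp [h2]) with hb
    have hb0 : b 0 = v := by simp [b]
    have hb1 : b 1 = v' := by simp [b]
    set M := LinearMap.toMatrix b b (linMap q g) with hM
    have hdet : M.det = 1 := by rw [hM, LinearMap.det_toMatrix]; exact det_linMap hperf g
    have hsum : g • v' = M 0 1 • v + M 1 1 • v' := by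
      have := b.sum_repr (linMap q g (b 1))
      rw [Fin.sum_univ_two] at this
      simp only [hM, LinearMap.toMatrix_apply]
      rw [hb0, hb1] at this
      rw [hb1, ← linMap_apply (q := q)]
      exact this.symm
    have h00 : M 0 0 = 1 ∧ M 1 0 = 0 := by
      simp only [hM, LinearMap.toMatrix_apply, hb0, linMap_apply, hgv]
      rw [← hb0]
      simp
    rw [Matrix.det_fin_two, h00.1, h00.2, one_mul, mul_zero, sub_zero] at hdet
    rw [hdet, one_smul] at hsum
    have hpow : ∀ k : ℕ, g ^ k • v' = k • (M 0 1 • v) + v' := by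
      intro k
      induction k with
      | zero => simp
      | succ k ih =>
        rw [pow_succ', mul_smul, ih, smul_add, hsum, ← DistribSMul.toAddMonoidHom_apply V g,
          map_nsmul, DistribSMul.toAddMonoidHom_apply, ← linMap_apply (q := q), map_smul,
          linMap_apply, hgv, succ_nsmul]
        abel
    have hq0 : ∀ x : V, q • x = 0 := fun x => by
      rw [← Nat.cast_smul_eq_nsmul (ZMod q), ZMod.natCast_self, zero_smul]
    have hgq : g ^ q = 1 := by
      refine hfaith _ fun w => ?_
      have hw := b.sum_repr w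
      rw [Fin.sum_univ_two, hb0, hb1] at hw
      rw [← hw, ← linMap_apply (q := q), map_add, map_smul, map_smul, linMap_apply, linMap_apply,
        hpow, hq0, zero_add]
      congr 2
      have hgk : ∀ k : ℕ, g ^ k • v = v := fun k => by
        induction k with
        | zero => simp
        | succ k ih => rw [pow_succ, mul_smul, hgv, ih]
      exact hgk q
    have hdvd := Nat.dvd_gcd (orderOf_dvd_natCard g) (orderOf_dvd_of_pow_eq_one hgq)
    rw [hcop, Nat.dvd_one, orderOf_eq_one_iff] at hdvd
    exact hdvd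
  haveI : Fact (Nat.Prime 2) := ⟨Nat.prime_two⟩
  have h2 : IsPGroup 2 S := by
    refine IsPGroup.of_card (n := (Nat.card S).primeFactorsList.length)
      (Nat.eq_prime_pow_of_unique_prime_dvd Nat.card_pos.ne' fun {r} hr hrd => ?_)
    by_contra hr2
    haveI := Fact.mk hr
    obtain ⟨g, hg⟩ := exists_prime_orderOf_dvd_card' (G := S) r hrd
    obtain ⟨v, hv⟩ := exists_ne (0 : V)
    obtain ⟨a, ha⟩ := horb v
    have hPg : IsPGroup r (Subgroup.zpowers g) :=
      IsPGroup.of_card (n := 1) (by rw [Nat.card_zpowers, hg, pow_one])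
    have hnd : ¬ r ∣ Nat.card (orbit S v) := by
      rw [Nat.card_coe_set_eq, ← index_stabilizer, ha]
      exact fun h => hr2 ((Nat.prime_dvd_prime_iff_eq hr Nat.prime_two).1 (hr.dvd_of_dvd_pow h))
    obtain ⟨⟨w, hw⟩, hfix⟩ := IsPGroup.nonempty_fixed_point_of_prime_not_dvd_card hPg (orbit S v) hnd
    have hgw : g • w = w :=
      congrArg Subtype.val (mem_fixedPoints.1 hfix ⟨g, Subgroup.mem_zpowers g⟩)
    have hw0 : w ≠ 0 := by
      rintro rfl
      obtain ⟨s, hs⟩ := hw
      exact hv ((smul_eq_zero_iff_eq s).1 hs)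
    rw [key g w hw0 hgw, orderOf_one] at hg
    exact hr.one_lt.ne hg
  haveI : Group.IsNilpotent S := h2.isNilpotent
  haveI : Group.IsSolvable S := inferInstance
  exact (Group.IsSolvable.commutator_lt_top_of_nontrivial S).ne hperf

/-- The span of the powers of one element in an irreducible cyclic action is small. -/
theorem card_le_sq_of_twist {a u : S} {j m : ℕ} [Nontrivial V] (hm : 2 ≤ m)
    (hfaith : ∀ g : S, (∀ v : V, g • v = v) → g = 1) (ha : orderOf a = 2 ^ m) (hj4 : j % 4 = 3)
    (hu : u * a * u⁻¹ = a ^ j) (hu2 : u ^ 2 ∈ Subgroup.zpowers a)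
    (hirr : ∀ W : AddSubgroup V, (∀ v ∈ W, a • v ∈ W) → W = ⊥ ∨ W = ⊤) :
    Nat.card V ≤ q ^ 2 := by
  classical
  set T : Module.End (ZMod q) V := linMap q a with hT
  set K := Algebra.adjoin (ZMod q) {T} with hK
  have hTK : T ∈ K := Algebra.subset_adjoin rfl
  have hcomm : ∀ x ∈ K, ∀ y ∈ K, x * y = y * x := by
    have hcT : ∀ y ∈ K, T * y = y * T := fun y hy => by
      induction hy using Algebra.adjoin_induction with
      | mem z hz => rw [Set.mem_singleton_iff] at hz; rw [hz]
      | algebraMap c => exact (Algebra.commutes c T).symm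
      | add x y _ _ hx hy => rw [mul_add, add_mul, hx, hy]
      | mul x y _ _ hx hy => rw [← mul_assoc, hx, mul_assoc, hy, mul_assoc]
    intro x hx y hy
    induction hx using Algebra.adjoin_induction with
    | mem z hz => rw [Set.mem_singleton_iff] at hz; rw [hz]; exact hcT y hy
    | algebraMap c => exact Algebra.commutes c y
    | add x z _ _ hx hz => rw [mul_add, add_mul, hx, hz]
    | mul x z _ _ hx hz => rw [mul_assoc, hz, ← mul_assoc, hx, mul_assoc]
  haveI : Finite (Module.End (ZMod q) V) := Finite.of_injective _ DFunLike.coe_injective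
  haveI : Finite K := Finite.of_injective _ Subtype.val_injective
  letI : CommRing K :=
    { (inferInstance : Ring K) with mul_comm := fun x y => Subtype.ext (hcomm x x.2 y y.2) }
  haveI : Nontrivial K := ⟨⟨0, 1, fun h => by
    obtain ⟨v, hv⟩ := exists_ne (0 : V)
    exact hv (LinearMap.congr_fun (congrArg Subtype.val h) v).symm⟩⟩
  haveI : NoZeroDivisors K := ⟨fun {x y} hxy => by
    rw [or_iff_not_imp_right]
    intro hy
    have hinv : ∀ v ∈ (LinearMap.ker (x : Module.End (ZMod q) V)).toAddSubgroup,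
        a • v ∈ (LinearMap.ker (x : Module.End (ZMod q) V)).toAddSubgroup := by
      intro v hv
      have h1 := LinearMap.congr_fun (hcomm x x.2 T hTK) v
      simp only [Module.End.mul_apply] at h1
      change (x : Module.End (ZMod q) V) (T v) = 0
      rw [h1, show (x : Module.End (ZMod q) V) v = 0 from hv, map_zero]
    have hyx : ∀ v, (x : Module.End (ZMod q) V) ((y : Module.End (ZMod q) V) v) = 0 := fun v =>
      LinearMap.congr_fun (congrArg Subtype.val hxy) v
    rcases hirr _ hinv with h | h
    · refine absurd (Subtype.ext (LinearMap.ext fun v => ?_)) hy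
      have : (y : Module.End (ZMod q) V) v ∈
        (LinearMap.ker (x : Module.End (ZMod q) V)).toAddSubgroup := hyx v
      rw [h, AddSubgroup.mem_bot] at this
      exact this
    · refine Subtype.ext (LinearMap.ext fun v => ?_)
      have : v ∈ (LinearMap.ker (x : Module.End (ZMod q) V)).toAddSubgroup := h ▸ AddSubgroup.mem_top v
      exact this⟩
  haveI : IsDomain K := NoZeroDivisors.to_isDomain K
  letI : Field K := (Finite.isDomain_to_isField K).toField
  set t : K := ⟨T, hTK⟩ with ht
  have hTpow : ∀ k : ℕ, ((t ^ k : K) : Module.End (ZMod q) V) = linMap q (a ^ k) := fun k => by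
    rw [SubmonoidClass.coe_pow, map_pow]
  have hpow_eq : ∀ k l : ℕ, t ^ k = t ^ l ↔ k ≡ l [MOD 2 ^ m] := fun k l => by
    rw [← ha, ← pow_eq_pow_iff_modEq]
    constructor
    · intro h
      have h1 := congrArg (fun e : K => (e : Module.End (ZMod q) V)) h
      simp only [hTpow] at h1
      refine (mul_inv_eq_one.1 (hfaith (a ^ k * (a ^ l)⁻¹) fun v => ?_))
      rw [mul_smul, ← linMap_apply (q := q), h1, linMap_apply, smul_inv_smul]
    · intro h
      exact Subtype.ext (by rw [hTpow, hTpow, h])
  -- conjugation by `u`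
  let c : Module.End (ZMod q) V →ₐ[ZMod q] Module.End (ZMod q) V :=
    { toFun := fun x => linMap q u * x * linMap q u⁻¹
      map_one' := by rw [mul_one, ← map_mul, mul_inv_cancel, map_one]
      map_mul' := fun x y => by
        calc linMap q u * (x * y) * linMap q u⁻¹
            = linMap q u * x * (linMap q u⁻¹ * linMap q u) * y * linMap q u⁻¹ := by
              rw [← map_mul, inv_mul_cancel, map_one, mul_one]; simp only [mul_assoc]
          _ = _ := by simp only [mul_assoc]
      map_zero' := by rw [mul_zero, zero_mul]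
      map_add' := fun x y => by rw [mul_add, add_mul]
      commutes' := fun k => by
        rw [← Algebra.commutes k (linMap q u), mul_assoc, ← map_mul, mul_inv_cancel, map_one,
          mul_one] }
  have hcT : c T = linMap q (a ^ j) := by
    change linMap q u * linMap q a * linMap q u⁻¹ = _
    rw [← map_mul, ← map_mul, hu]
  have hcK : ∀ x ∈ K, c x ∈ K := fun x hx => by
    induction hx using Algebra.adjoin_induction with
    | mem z hz =>
      rw [Set.mem_singleton_iff] at hz
      rw [hz, hcT, map_pow]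
      exact pow_mem hTK j
    | algebraMap k => rw [AlgHom.commutes]; exact Subalgebra.algebraMap_mem _ _
    | add x y _ _ hx hy => rw [map_add]; exact add_mem hx hy
    | mul x y _ _ hx hy => rw [map_mul]; exact mul_mem hx hy
  let σ : K →ₐ[ZMod q] K := (c.comp K.val).codRestrict K fun x => hcK x x.2
  have hσ : σ t = t ^ j := Subtype.ext (by rw [hTpow]; exact hcT)
  haveI := Fintype.ofFinite K
  obtain ⟨i, hi⟩ := (FiniteField.bijective_frobeniusAlgHom_pow (ZMod q) K).2 σ
  have hfrob : ∀ (k : ℕ) (x : K),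
      (FiniteField.frobeniusAlgHom (ZMod q) K ^ k) x = x ^ q ^ k := by
    intro k x
    induction k with
    | zero => simp
    | succ k ih =>
      rw [pow_succ', AlgHom.mul_apply, ih, FiniteField.coe_frobeniusAlgHom, ZMod.card]
      simp only [← pow_mul, ← pow_succ]
  have hjq : j ≡ q ^ (i : ℕ) [MOD 2 ^ m] := by
    rw [← hpow_eq, ← hσ, ← hi, hfrob]
  have hj2 : j ^ 2 ≡ 1 [MOD 2 ^ m] := by
    rw [← ha, ← pow_eq_pow_iff_modEq, pow_one, pow_two, pow_mul]
    have h1 : ∀ n : ℕ, u * a ^ n * u⁻¹ = (a ^ j) ^ n := fun n => by rw [← conj_pow, hu]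
    rw [← h1 j, ← hu]
    obtain ⟨k, hk⟩ := Subgroup.mem_zpowers_iff.1 hu2
    rw [pow_two] at hk
    calc u * (u * a * u⁻¹) * u⁻¹ = (u * u) * a * (u * u)⁻¹ := by group
      _ = a := by
        rw [← hk]; group
  -- arithmetic
  have h4 : 4 ∣ 2 ^ m := (pow_dvd_pow 2 hm : 2 ^ 2 ∣ 2 ^ m)
  have hqi : q ^ (i : ℕ) % 4 = 3 := by
    rw [← hj4]
    exact (Nat.ModEq.of_dvd h4 hjq.symm)
  have hiodd : Odd (i : ℕ) := by
    by_contra hev
    obtain ⟨l, hl⟩ := Nat.not_odd_iff_even.1 hev
    rw [hl, ← two_mul, pow_mul'] at hqi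
    generalize q ^ l = x at hqi
    rw [pow_two, Nat.mul_mod] at hqi
    have := Nat.mod_lt x (by norm_num : 0 < 4)
    interval_cases (x % 4) <;> omega
  have hq2 : t ^ q ^ 2 = t := by
    have h2i : q ^ (2 * (i : ℕ)) ≡ 1 [MOD 2 ^ m] := by
      rw [pow_mul']
      exact (hjq.symm.pow 2).trans hj2
    have hqodd : ¬ 2 ∣ q := fun h => by
      have : 2 ∣ q ^ (i : ℕ) := h.trans (dvd_pow_self q hiodd.pos.ne')
      omega
    have hφ : q ^ (2 ^ (m - 1)) ≡ 1 [MOD 2 ^ m] := by
      have := Nat.ModEq.pow_totient ((Nat.prime_two.coprime_iff_not_dvd.2 hqodd).symm.pow_right m)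
      rwa [Nat.totient_prime_pow Nat.prime_two (by omega), show (2 - 1 : ℕ) = 1 from rfl,
        mul_one] at this
    have hmod : q ^ 2 ≡ 1 [MOD 2 ^ m] := by
      have h1 : (q : ZMod (2 ^ m)) ^ (2 * (i : ℕ)) = 1 := by
        exact_mod_cast (ZMod.natCast_eq_natCast_iff _ _ _).2 h2i
      have h2 : (q : ZMod (2 ^ m)) ^ (2 ^ (m - 1)) = 1 := by
        exact_mod_cast (ZMod.natCast_eq_natCast_iff _ _ _).2 hφ
      have h3 : (q : ZMod (2 ^ m)) ^ Nat.gcd (2 * (i : ℕ)) (2 ^ (m - 1)) = 1 :=
        pow_gcd_eq_one.2 ⟨h1, h2⟩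
      have h4' : Nat.gcd (2 * (i : ℕ)) (2 ^ (m - 1)) ∣ 2 := by
        have hc : Nat.Coprime (2 ^ (m - 1)) (i : ℕ) := (Nat.coprime_two_left.2 hiodd).pow_left _
        rw [Nat.gcd_comm, mul_comm 2 (i : ℕ)]
        exact Nat.Coprime.dvd_of_dvd_mul_left (hc.coprime_dvd_left (Nat.gcd_dvd_left _ _))
          (Nat.gcd_dvd_right _ _)
      obtain ⟨d, hd⟩ := h4'
      rw [← ZMod.natCast_eq_natCast_iff, Nat.cast_pow, Nat.cast_one]
      calc (q : ZMod (2 ^ m)) ^ (2 : ℕ)
          = (q : ZMod (2 ^ m)) ^ (Nat.gcd (2 * (i : ℕ)) (2 ^ (m - 1)) * d) :=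
            congrArg (fun e : ℕ => (q : ZMod (2 ^ m)) ^ e) hd
        _ = 1 := by rw [pow_mul, h3, one_pow]
    calc t ^ q ^ 2 = t ^ 1 := (hpow_eq _ _).2 hmod
      _ = t := pow_one t
  have hall : ∀ x : K, x ^ q ^ 2 = x := by
    have hfix : ∀ (x : Module.End (ZMod q) V) (hx : x ∈ K),
        (⟨x, hx⟩ : K) ^ q ^ 2 = ⟨x, hx⟩ := by
      intro x hx
      induction hx using Algebra.adjoin_induction with
      | mem z hz => rw [Set.mem_singleton_iff] at hz; subst hz; exact hq2
      | algebraMap k =>
        have e : (⟨algebraMap (ZMod q) (Module.End (ZMod q) V) k, Subalgebra.algebraMap_mem K k⟩ : K)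
            = algebraMap (ZMod q) K k := rfl
        rw [e, ← hfrob, AlgHom.commutes]
      | add x y hx hy ihx ihy =>
        rw [← hfrob] at ihx ihy ⊢
        rw [show (⟨x + y, add_mem hx hy⟩ : K) = ⟨x, hx⟩ + ⟨y, hy⟩ from rfl, map_add, ihx, ihy]
      | mul x y hx hy ihx ihy =>
        rw [show (⟨x * y, mul_mem hx hy⟩ : K) = ⟨x, hx⟩ * ⟨y, hy⟩ from rfl, mul_pow, ihx, ihy]
    exact fun x => hfix x.1 x.2
  have hKcard : Nat.card K ≤ q ^ 2 := by
    obtain ⟨g, hg⟩ := IsCyclic.exists_generator (α := Kˣ)
    have hg1 : g ^ (q ^ 2 - 1) = 1 := by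
      have h := hall (g : K)
      rw [← Units.val_pow_eq_pow_val, Units.val_inj] at h
      have h0 : 0 < q ^ 2 := pow_pos hq.out.pos 2
      rwa [show q ^ 2 = q ^ 2 - 1 + 1 by omega, pow_succ, mul_eq_right] at h
    have hpos : 0 < q ^ 2 - 1 := by
      have := Nat.one_lt_pow two_ne_zero hq.out.one_lt
      omega
    have := Nat.le_of_dvd hpos (orderOf_dvd_of_pow_eq_one hg1)
    rw [orderOf_eq_card_of_forall_mem_zpowers hg, Nat.card_units] at this
    omega
  obtain ⟨v, hv⟩ := exists_ne (0 : V)
  let f : K →+ V := AddMonoidHom.mk' (fun x => (x : Module.End (ZMod q) V) v)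
    fun x y => rfl
  have hsurj : Function.Surjective f := by
    rw [← AddMonoidHom.range_eq_top]
    refine (hirr f.range ?_).resolve_left fun h => hv ?_
    · rintro _ ⟨x, rfl⟩
      exact ⟨t * x, rfl⟩
    · have : f 1 ∈ f.range := ⟨1, rfl⟩
      rw [h, AddSubgroup.mem_bot] at this
      exact this
  exact (Nat.card_le_card_of_surjective f hsurj).trans hKcard

end Cfsg.Agent.Baer
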