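import Cfsg.Agent.Lib.FGStruct.Baer.Coprime
import Cfsg.Agent.Lib.FGStruct.Baer.PGroup
import Cfsg.Agent.Lib.FGStruct.Baer.Perm
import Cfsg.Agent.Lib.FGStruct.Baer.Small
import Cfsg.Agent.Lib.Solvable.Structure
import Mathlib.GroupTheory.Transfer

/-!
A coprime linear group over a prime field all of whose orbit sizes are powers of one prime is
solvable.
-/

set_option autoImplicit false
set_option linter.style.haveILetI false
set_option linter.unusedSectionVars false

namespace Cfsg.Agent.Baer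

open MulAction Finset

variable {S V : Type*} [Group S] [Finite S] [AddCommGroup V] [Finite V] [DistribMulAction S V]

theorem smul_mem_union {A B : AddSubgroup V} {s : S} {W : AddSubgroup V}
    (h : ∀ v ∈ W, s • v ∈ A ∨ s • v ∈ B) : (∀ v ∈ W, s • v ∈ A) ∨ (∀ v ∈ W, s • v ∈ B) := by
  by_contra hc
  push Not at hc
  obtain ⟨⟨x, hx, hxA⟩, ⟨y, hy, hyB⟩⟩ := hc
  have hxB := (h x hx).resolve_left hxA
  have hyA := (h y hy).resolve_right hyB
  rcases h (x + y) (add_mem hx hy) with h' | h'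
  · rw [smul_add] at h'
    exact hxA ((A.add_mem_cancel_right hyA).1 h')
  · rw [smul_add] at h'
    exact hyB ((B.add_mem_cancel_left hxB).1 h')

theorem sum_range_fixed {g : S} {p : ℕ} (hg : g ^ p = 1) (v : V) :
    g • (∑ i ∈ range p, g ^ i • v) = ∑ i ∈ range p, g ^ i • v := by
  have h1 := Finset.sum_range_succ' (fun i => g ^ i • v) p
  have h2 := Finset.sum_range_succ (fun i => g ^ i • v) p
  rw [h1, hg, pow_zero] at h2
  rw [Finset.smul_sum, ← add_right_cancel h2]
  exact Finset.sum_congr rfl fun i _ => by rw [← mul_smul, ← pow_succ']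

/-- The setting: perfect, faithful, irreducible, coprime, with orbit sizes powers of `p`. -/
structure LinHyp (S V : Type*) [Group S] [AddCommGroup V] [DistribMulAction S V] (p q : ℕ) :
    Prop where
  perfect : commutator S = ⊤
  faith : ∀ g : S, (∀ v : V, g • v = v) → g = 1
  irr : ∀ W : AddSubgroup V, (∀ g : S, ∀ v ∈ W, g • v ∈ W) → W = ⊥ ∨ W = ⊤
  el : ∀ v : V, q • v = 0
  cop : (Nat.card S).Coprime q
  orb : ∀ v : V, ∃ a, (stabilizer S v).index = p ^ a

variable {p q : ℕ} [hp : Fact p.Prime] [hq : Fact q.Prime]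

theorem LinHyp.exists_mem_sylow (h : LinHyp S V p q) (P : Sylow p S) (g : S) (v : V) :
    ∃ a ∈ (P : Subgroup S), a • v = g • v := by
  obtain ⟨a, ha⟩ := h.orb v
  exact orbit_of_coprime (P : Subgroup S) v
    (ha ▸ ((hp.out.coprime_iff_not_dvd.2 P.not_dvd_index).symm.pow_right a)) g

theorem LinHyp.irr_sylow (h : LinHyp S V p q) (P : Sylow p S) (W : AddSubgroup V)
    (hW : ∀ g ∈ (P : Subgroup S), ∀ v ∈ W, g • v ∈ W) : W = ⊥ ∨ W = ⊤ :=
  h.irr W fun g v hv => by
    obtain ⟨a, ha, hav⟩ := h.exists_mem_sylow P g v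
    exact hav ▸ hW a ha v hv

theorem LinHyp.nontrivial (h : LinHyp S V p q) [Nontrivial S] : Nontrivial V := by
  by_contra hn
  rw [not_nontrivial_iff_subsingleton] at hn
  obtain ⟨g, hg⟩ := exists_ne (1 : S)
  exact hg (h.faith g fun v => Subsingleton.elim _ _)

theorem LinHyp.fixed_eq_zero (h : LinHyp S V p q) [Nontrivial S] {v : V}
    (hv : ∀ g : S, g • v = v) : v = 0 := by
  let F : AddSubgroup V :=
    { carrier := {x | ∀ g : S, g • x = x}
      zero_mem' := fun g => smul_zero g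
      add_mem' := fun {a b} ha hb g => by rw [smul_add, ha g, hb g]
      neg_mem' := fun {a} ha g => by rw [smul_neg, ha g] }
  rcases h.irr F (fun g x hx => by rw [hx g]; exact hx) with hF | hF
  · exact (AddSubgroup.mem_bot).1 (hF ▸ (hv : v ∈ F))
  · obtain ⟨g, hg⟩ := exists_ne (1 : S)
    exact absurd (h.faith g fun x => (hF ▸ AddSubgroup.mem_top x : x ∈ F) g) hg

theorem LinHyp.sylow_ne_bot (h : LinHyp S V p q) [Nontrivial S] (P : Sylow p S) :
    (P : Subgroup S) ≠ ⊥ := by
  intro hP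
  haveI := h.nontrivial
  obtain ⟨v, hv⟩ := exists_ne (0 : V)
  refine hv (h.fixed_eq_zero fun g => ?_)
  obtain ⟨a, ha, hav⟩ := h.exists_mem_sylow P g v
  rw [hP, Subgroup.mem_bot] at ha
  rw [← hav, ha, one_smul]

theorem LinHyp.ne (h : LinHyp S V p q) [Nontrivial S] : p ≠ q := by
  rintro rfl
  obtain ⟨P⟩ : Nonempty (Sylow p S) := inferInstance
  haveI : Nontrivial (P : Subgroup S) := (Subgroup.nontrivial_iff_ne_bot _).2 (h.sylow_ne_bot P)
  obtain ⟨n, hn, hcard⟩ := (IsPGroup.nontrivial_iff_card P.2).1 inferInstance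
  have hd : p ∣ Nat.card S := (hcard ▸ dvd_pow_self p hn.ne').trans (Subgroup.card_subgroup_dvd_card _)
  exact hp.out.ne_one (Nat.eq_one_of_dvd_coprimes h.cop hd dvd_rfl)

theorem LinHyp.not_even (h : LinHyp S V p q) [Nontrivial S] (hp2 : p ≠ 2) :
    ¬ 2 ∣ Nat.card S := by
  intro h2
  haveI : Fact (Nat.Prime 2) := ⟨Nat.prime_two⟩
  have hq2 : q ≠ 2 := fun e => by
    have := Nat.eq_one_of_dvd_coprimes h.cop h2 (dvd_of_eq e.symm)
    omega
  obtain ⟨s, hs⟩ := exists_prime_orderOf_dvd_card' (G := S) 2 h2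
  obtain ⟨v, hv⟩ : ∃ v : V, s • v ≠ v := by
    by_contra! hall
    rw [h.faith s hall, orderOf_one] at hs
    omega
  set w := v - s • v with hw
  have hsw : s • w = -w := by
    rw [hw, smul_sub, ← mul_smul, ← pow_two, ← hs, pow_orderOf_eq_one, one_smul, neg_sub]
  obtain ⟨P⟩ : Nonempty (Sylow p S) := inferInstance
  obtain ⟨a, ha, haw⟩ := h.exists_mem_sylow P s w
  rw [hsw] at haw
  have hk : ∀ k : ℕ, a ^ k • w = (-1 : ℤ) ^ k • w := by
    intro k
    induction k with
    | zero => simp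
    | succ k ih =>
      rw [pow_succ', mul_smul, ih, smul_zsmul_comm, haw, zsmul_neg, ← neg_zsmul, pow_succ',
        neg_one_mul]
  have hodd : Odd (orderOf a) := by
    obtain ⟨k, hk'⟩ := IsPGroup.iff_orderOf.1 P.2 ⟨a, ha⟩
    rw [← Subgroup.orderOf_coe] at hk'
    exact hk' ▸ (hp.out.odd_of_ne_two hp2).pow
  have hww : w = -w := by
    have := hk (orderOf a)
    rwa [pow_orderOf_eq_one, one_smul, hodd.neg_one_pow, neg_one_zsmul] at this
  have h2w : 2 • w = 0 := by rw [two_nsmul]; nth_rewrite 2 [hww]; exact add_neg_cancel w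
  have hd := Nat.dvd_gcd (addOrderOf_dvd_of_nsmul_eq_zero h2w)
    (addOrderOf_dvd_of_nsmul_eq_zero (h.el w))
  rw [(Nat.coprime_primes Nat.prime_two hq.out).2 (Ne.symm hq2), Nat.dvd_one,
    AddMonoid.addOrderOf_eq_one_iff] at hd
  exact hv (sub_eq_zero.1 hd).symm

theorem LinHyp.not_plane (h : LinHyp S V p q) [Nontrivial S] (P : Sylow p S)
    (hpl : HasPlane p (P : Subgroup S)) : False := by
  classical
  obtain ⟨z', t', hzc, hz, ht, htz, hconj⟩ := hpl
  haveI := h.nontrivial
  set z : S := (z' : S) with hzdef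
  set t : S := (t' : S) with htdef
  have hzt : ∀ g ∈ (P : Subgroup S), g * z = z * g := fun g hg =>
    congrArg Subtype.val (Subgroup.mem_center_iff.1 hzc ⟨g, hg⟩)
  have hztc : Commute z t := (hzt t t'.2).symm
  have hzo : orderOf z = p := by rw [hzdef, Subgroup.orderOf_coe, hz]
  have hto : orderOf t = p := by rw [htdef, Subgroup.orderOf_coe, ht]
  have hzp : z ^ p = 1 := hzo ▸ pow_orderOf_eq_one z
  have htp : t ^ p = 1 := hto ▸ pow_orderOf_eq_one t
  -- `z` is fixed point free
  have hzfix : ∀ v : V, z • v = v → v = 0 := by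
    let F : AddSubgroup V :=
      { carrier := {x | z • x = x}
        zero_mem' := smul_zero z
        add_mem' := fun {a b} ha hb => by rw [Set.mem_ofPred_eq] at *; rw [smul_add, ha, hb]
        neg_mem' := fun {a} ha => by rw [Set.mem_ofPred_eq] at *; rw [smul_neg, ha] }
    intro v hv
    rcases h.irr_sylow P F (fun g hg x hx => by
      show z • g • x = g • x
      rw [← mul_smul, ← hzt g hg, mul_smul, show z • x = x from hx]) with hF | hF
    · exact AddSubgroup.mem_bot.1 (hF ▸ (hv : v ∈ F))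
    · exfalso
      have := h.faith z fun x => (hF ▸ AddSubgroup.mem_top x : x ∈ F)
      rw [this, orderOf_one] at hzo
      exact hp.out.ne_one hzo.symm
  have hzifix : ∀ (i : ℤ) (v : V), ¬ (p : ℤ) ∣ i → z ^ i • v = v → v = 0 := by
    intro i v hi hv
    refine hzfix v ?_
    obtain ⟨a, b, hab⟩ := ((Nat.prime_iff_prime_int.1 hp.out).coprime_iff_not_dvd.2 hi)
    have : z = (z ^ i) ^ b := by
      rw [← zpow_mul]
      nth_rewrite 1 [← zpow_one z]
      rw [← hab, zpow_add, mul_comm a, zpow_mul, zpow_natCast, hzp, one_zpow, one_mul, mul_comm i]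
    rw [this]
    exact mem_stabilizer_iff.1 (zpow_mem (mem_stabilizer_iff.2 hv : z ^ i ∈ stabilizer S v) b)
  -- the blocks
  let e : ZMod p → S := fun i => z ^ i.val * t
  have hecomm : ∀ i k, Commute (e i) (e k) := fun i k =>
    (((Commute.refl z).pow_pow _ _).mul_right (hztc.pow_left _)).mul_left
      ((hztc.pow_left _).symm.mul_right (Commute.refl t))
  have hep : ∀ i, e i ^ p = 1 := fun i => by
    rw [(hztc.pow_left i.val).mul_pow, htp, ← pow_mul, mul_comm, pow_mul, hzp, one_pow, one_mul]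
  let W : ZMod p → AddSubgroup V := fun i =>
    { carrier := {x | e i • x = x}
      zero_mem' := smul_zero _
      add_mem' := fun {a b} ha hb => by rw [Set.mem_ofPred_eq] at *; rw [smul_add, ha, hb]
      neg_mem' := fun {a} ha => by rw [Set.mem_ofPred_eq] at *; rw [smul_neg, ha] }
  have hdisj : ∀ i k v, i ≠ k → v ∈ W i → v ∈ W k → v = 0 := by
    intro i k v hik hi hk
    refine hzifix ((i.val : ℤ) - k.val) v (fun hd => hik ?_) ?_
    · have := (ZMod.intCast_zmod_eq_zero_iff_dvd _ p).2 hd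
      push_cast at this
      rwa [ZMod.natCast_zmod_val, ZMod.natCast_zmod_val, sub_eq_zero] at this
    · have h1 : z ^ ((i.val : ℤ) - k.val) = e i * (e k)⁻¹ := by
        simp only [e]; rw [zpow_sub, zpow_natCast, zpow_natCast]; group
      rw [h1, mul_smul, show (e k)⁻¹ • v = v from inv_smul_eq_iff.2 (show e k • v = v from hk).symm]
      exact hi
  -- projections
  let π : ZMod p → V →+ V := fun i => ∑ j ∈ range p, DistribSMul.toAddMonoidHom V (e i ^ j)
  have hπ : ∀ i v, π i v = ∑ j ∈ range p, e i ^ j • v := fun i v => by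
    simp [π, AddMonoidHom.finsetSum_apply]
  have hπmem : ∀ i v, π i v ∈ W i := fun i v => by
    show e i • π i v = π i v
    rw [hπ, sum_range_fixed (hep i)]
  have hπkill : ∀ i k v, i ≠ k → v ∈ W k → π i v = 0 := fun i k v hik hv => by
    refine hdisj i k _ hik (hπmem i v) ?_
    show e k • π i v = π i v
    rw [hπ, Finset.smul_sum]
    refine Finset.sum_congr rfl fun j _ => ?_
    rw [← mul_smul, ((hecomm k i).pow_right j).eq, mul_smul, show e k • v = v from hv]
  have hπid : ∀ i v, v ∈ W i → π i v = p • v := fun i v hv => by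
    have : ∀ j : ℕ, e i ^ j • v = v := fun j =>
      mem_stabilizer_iff.1 (pow_mem (mem_stabilizer_iff.2 hv : e i ∈ stabilizer S v) j)
    rw [hπ]; simp [this]
  have hpinj : ∀ v : V, p • v = 0 → v = 0 := fun v hv => by
    have hd := Nat.dvd_gcd (addOrderOf_dvd_of_nsmul_eq_zero hv)
      (addOrderOf_dvd_of_nsmul_eq_zero (h.el v))
    rwa [(Nat.coprime_primes hp.out hq.out).2 h.ne, Nat.dvd_one,
      AddMonoid.addOrderOf_eq_one_iff] at hd
  -- one block is nonzero
  obtain ⟨i₀, w₀, hw₀, hw₀0⟩ : ∃ i v, v ∈ W i ∧ v ≠ 0 := by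
    obtain ⟨w, hw⟩ := exists_ne (0 : V)
    by_contra! hall
    refine hw (hpinj w ?_)
    have h0 : ∑ i : ZMod p, π i w = 0 := Finset.sum_eq_zero fun i _ => hall i _ (hπmem i w)
    simp only [hπ] at h0
    rw [Finset.sum_comm] at h0
    rw [← h0, Finset.sum_eq_single (a := 0)]
    · simp
    · intro j hj hj0
      rw [Finset.mem_range] at hj
      have hzero : ∀ u : V, ∑ i : ZMod p, (z ^ j) ^ i.val • u = 0 := by
        intro u
        have e1 : ∑ i : ZMod p, (z ^ j) ^ i.val • u = ∑ i ∈ range p, (z ^ j) ^ i • u := by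
          refine Finset.sum_nbij' (fun i => i.val) (fun n => (n : ZMod p))
            (fun i _ => Finset.mem_range.2 (ZMod.val_lt i)) (fun n _ => Finset.mem_univ _)
            (fun i _ => ZMod.natCast_zmod_val i)
            (fun n hn => ZMod.val_natCast_of_lt (Finset.mem_range.1 hn)) fun i _ => rfl
        rw [e1]
        refine hzifix (j : ℤ) _ (fun hd => ?_) ?_
        · exact hj0 (Nat.eq_zero_of_dvd_of_lt (Int.natCast_dvd_natCast.1 hd) hj)
        · rw [zpow_natCast]
          exact sum_range_fixed (by rw [← pow_mul, mul_comm, pow_mul, hzp, one_pow]) u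
      rw [← hzero (t ^ j • w)]
      refine Finset.sum_congr rfl fun i _ => ?_
      rw [← mul_smul]
      congr 1
      rw [(hztc.pow_left i.val).mul_pow, ← pow_mul, ← pow_mul, mul_comm j]
    · intro h0'
      exact absurd (Finset.mem_range.2 hp.out.pos) h0'
  -- translations
  have htrans : ∀ g : S, g ∈ (P : Subgroup S) → ∃ c : ZMod p, ∀ i, g * e i * g⁻¹ = e (i + c) := by
    intro g hg
    obtain ⟨n, hn⟩ := hconj ⟨g, hg⟩
    have hn' : g * t * g⁻¹ = z ^ n * t := by
      have := congrArg Subtype.val hn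
      simpa using this
    refine ⟨(n : ZMod p), fun i => ?_⟩
    have hzg : g * z ^ i.val * g⁻¹ = z ^ i.val := by
      rw [mul_inv_eq_iff_eq_mul, ((show Commute g z from hzt g hg).pow_right i.val).eq]
    calc g * e i * g⁻¹ = (g * z ^ i.val * g⁻¹) * (g * t * g⁻¹) := by simp only [e]; group
      _ = z ^ ((i.val : ℤ) + n) * t := by rw [hzg, hn', zpow_add, zpow_natCast, mul_assoc]
      _ = e (i + n) := by
        simp only [e]
        congr 1
        rw [← zpow_natCast, zpow_eq_iff hzo, ← ZMod.intCast_zmod_eq_zero_iff_dvd]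
        push_cast
        rw [ZMod.natCast_zmod_val, ZMod.natCast_zmod_val, sub_self]
  have hWmap : ∀ g : S, ∀ i k, g * e i * g⁻¹ = e k → ∀ v ∈ W i, g • v ∈ W k := by
    intro g i k hgk v hv
    show e k • g • v = g • v
    rw [← hgk, ← mul_smul, inv_mul_cancel_right, mul_smul, show e i • v = v from hv]
  -- a translation moves the blocks
  obtain ⟨g, hg, c, hc0, hgc⟩ : ∃ g, g ∈ (P : Subgroup S) ∧ ∃ c : ZMod p, c ≠ 0 ∧
      ∀ i, g * e i * g⁻¹ = e (i + c) := by
    by_contra hno
    push Not at hno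
    rcases h.irr_sylow P (W i₀) (fun g hg v hv => by
      obtain ⟨c, hc⟩ := htrans g hg
      have hc0 : c = 0 := by
        by_contra hc0
        obtain ⟨i, hi⟩ := hno g hg c hc0
        exact hi (hc i)
      exact hWmap g i₀ i₀ (by rw [hc i₀, hc0, add_zero]) v hv) with hW | hW
    · rw [hW, AddSubgroup.mem_bot] at hw₀; exact hw₀0 hw₀
    · refine htz ?_
      have h1 := h.faith (e i₀) fun x => (hW ▸ AddSubgroup.mem_top x : x ∈ W i₀)
      refine Subgroup.mem_zpowers_iff.2 ⟨-(i₀.val : ℤ), Subtype.ext ?_⟩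
      rw [SubgroupClass.coe_zpow, zpow_neg, zpow_natCast]
      exact (eq_inv_of_mul_eq_one_right h1).symm
  have hshift : ∀ k : ℕ, ∀ i, g ^ k * e i * (g ^ k)⁻¹ = e (i + (k : ZMod p) * c) := by
    intro k
    induction k with
    | zero => intro i; simp
    | succ k ih =>
      intro i
      calc g ^ (k + 1) * e i * (g ^ (k + 1))⁻¹ = g * (g ^ k * e i * (g ^ k)⁻¹) * g⁻¹ := by
            rw [pow_succ']; group
        _ = _ := by rw [ih, hgc]; congr 1; push_cast; ring
  have hreach : ∀ i k, ∃ a ∈ (P : Subgroup S), a * e i * a⁻¹ = e k := fun i k =>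
    ⟨g ^ ((k - i) * c⁻¹).val, pow_mem hg _, by
      rw [hshift, ZMod.natCast_zmod_val, mul_assoc, inv_mul_cancel₀ hc0, mul_one, add_sub_cancel]⟩
  have hne : ∀ i, ∃ v ∈ W i, v ≠ 0 := fun i => by
    obtain ⟨a, -, ha⟩ := hreach i₀ i
    exact ⟨a • w₀, hWmap a i₀ i ha w₀ hw₀, fun e' => hw₀0 ((smul_eq_zero_iff_eq a).1 e')⟩
  -- the group permutes the blocks
  have hperm : ∀ (s : S) (i : ZMod p), ∃ k, ∀ v ∈ W i, s • v ∈ W k := by
    intro s i
    have hsingle : ∀ v ∈ W i, ∃ k, s • v ∈ W k := by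
      intro v hv
      obtain ⟨a, ha, hav⟩ := h.exists_mem_sylow P s v
      obtain ⟨c', hc'⟩ := htrans a ha
      exact ⟨i + c', hav ▸ hWmap a i _ (hc' i) v hv⟩
    obtain ⟨v, hv, hv0⟩ := hne i
    obtain ⟨k, hk⟩ := hsingle v hv
    refine ⟨k, fun u hu => ?_⟩
    obtain ⟨l, hl⟩ := hsingle u hu
    by_cases hkl : l = k
    · exact hkl ▸ hl
    obtain ⟨o, ho⟩ := hsingle (v + u) (add_mem hv hu)
    rw [smul_add] at ho
    have hzero : ∀ j x, x ∈ W j → π j x = 0 → x = 0 := fun j x hx h0 =>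
      hpinj x (by rw [← hπid j x hx, h0])
    by_cases hok : o = k
    · have hu' : s • u ∈ W k := ((W k).add_mem_cancel_left hk).1 (hok ▸ ho)
      exact hu'
    exfalso
    have h1 := hπkill k o _ (Ne.symm hok) ho
    rw [map_add, hπkill k l _ (Ne.symm hkl) hl, add_zero] at h1
    exact hv0 ((smul_eq_zero_iff_eq s).1 (hzero k _ hk h1))
  have huniq : ∀ (s : S) (i k l : ZMod p), (∀ v ∈ W i, s • v ∈ W k) → (∀ v ∈ W i, s • v ∈ W l) →
      k = l := by
    intro s i k l hk hl
    by_contra hkl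
    obtain ⟨v, hv, hv0⟩ := hne i
    exact hv0 ((smul_eq_zero_iff_eq s).1 (hdisj k l _ hkl (hk v hv) (hl v hv)))
  choose σ hσ using hperm
  letI act : MulAction S (ZMod p) :=
    { smul := σ
      one_smul := fun i => huniq 1 i _ _ (hσ 1 i) fun v hv => by rwa [one_smul]
      mul_smul := fun a b i => huniq (a * b) i _ _ (hσ (a * b) i) fun v hv => by
        rw [mul_smul]; exact hσ a _ _ (hσ b i v hv) }
  haveI : IsPretransitive S (ZMod p) := ⟨fun i k => by
    obtain ⟨a, -, ha⟩ := hreach i k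
    exact ⟨a, huniq a i _ _ (hσ a i) (hWmap a i k ha)⟩⟩
  by_cases hp2 : p = 2
  · refine not_index_two h.perfect (stabilizer S (0 : ZMod p)) ?_
    rw [index_stabilizer_of_transitive, Nat.card_zmod, hp2]
  · exact h.not_even hp2 (two_dvd_card_of_prime_degree h.perfect (Nat.card_zmod p))

theorem LinHyp.not_cyclic (h : LinHyp S V p q) [Nontrivial S] (P : Sylow p S)
    (hc : IsCyclic (P : Subgroup S)) : False := by
  haveI := h.nontrivial
  haveI := hc
  by_cases hp2 : p = 2
  · subst hp2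
    have h2 : 2 ∣ Nat.card S := by
      haveI : Nontrivial (P : Subgroup S) := (Subgroup.nontrivial_iff_ne_bot _).2 (h.sylow_ne_bot P)
      obtain ⟨n, hn, hcard⟩ := (IsPGroup.nontrivial_iff_card P.2).1 inferInstance
      exact (hcard ▸ dvd_pow_self 2 hn.ne').trans (Subgroup.card_subgroup_dvd_card _)
    have hmf : (Nat.card S).minFac = 2 :=
      (Nat.minFac_eq_two_iff _).2 h2
    have hle := hc.normalizer_le_centralizer hmf
    haveI : IsMulCommutative (P : Subgroup S) := inferInstance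
    have hker : (MonoidHom.transferSylow P hle).ker = ⊤ := by
      rw [eq_top_iff, ← h.perfect, commutator_def, Subgroup.commutator_le]
      intro a _ b _
      rw [MonoidHom.mem_ker, map_commutatorElement, commutatorElement_eq_one_iff_commute]
      exact mul_comm' _ _
    have hcomp := MonoidHom.ker_transferSylow_isComplement' P hle
    rw [hker] at hcomp
    exact h.sylow_ne_bot P (Subgroup.isComplement'_top_left.1 hcomp)
  obtain ⟨v, hv⟩ := exists_ne (0 : V)
  have hne : stabilizer S v ≠ ⊤ := fun htop =>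
    hv (h.fixed_eq_zero fun g => mem_stabilizer_iff.1 (htop ▸ Subgroup.mem_top g))
  obtain ⟨M, hM, hle⟩ := (eq_top_or_exists_le_coatom (stabilizer S v)).resolve_left hne
  refine h.not_even hp2 (two_dvd_card_of_cyclic_transitive h.perfect M hM P fun g => ?_)
  obtain ⟨a, ha, hav⟩ := h.exists_mem_sylow P g v
  refine ⟨a, ha, hle ?_⟩
  rw [mem_stabilizer_iff, mul_smul, ← hav, inv_smul_smul]

theorem LinHyp.not_twisted (h : LinHyp S V 2 q) [Nontrivial S] (P : Sylow 2 S)
    {a' u' : (P : Subgroup S)} {j m : ℕ} (hm : 2 ≤ m) (ha : orderOf a' = 2 ^ m)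
    (hidx : (Subgroup.zpowers a').index = 2) (hu : u' ∉ Subgroup.zpowers a') (hj : j % 4 = 3)
    (hconj : u' * a' * u'⁻¹ = a' ^ j) : False := by
  classical
  haveI := h.nontrivial
  haveI : Fact (Nat.Prime 2) := ⟨Nat.prime_two⟩
  haveI hAn : (Subgroup.zpowers a').Normal := Subgroup.normal_of_index_eq_two hidx
  set a : S := (a' : S) with had
  set u : S := (u' : S) with hud
  have hdec : ∀ g ∈ (P : Subgroup S), ∃ x : ℕ, g = a ^ x ∨ g = u * a ^ x := by
    intro g hg
    by_cases hgA : (⟨g, hg⟩ : (P : Subgroup S)) ∈ Subgroup.zpowers a'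
    · obtain ⟨x, hx⟩ := mem_powers_iff_mem_zpowers.2 hgA
      exact ⟨x, Or.inl (congrArg Subtype.val hx).symm⟩
    · have h2 : u'⁻¹ * ⟨g, hg⟩ ∈ Subgroup.zpowers a' :=
        (Subgroup.mul_mem_iff_of_index_two hidx).2
          (iff_of_false (fun h' => hu (by simpa using h')) hgA)
      obtain ⟨x, hx⟩ := mem_powers_iff_mem_zpowers.2 h2
      refine ⟨x, Or.inr ?_⟩
      have := congrArg Subtype.val hx
      simp only [SubgroupClass.coe_pow, Subgroup.coe_mul, InvMemClass.coe_inv] at this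
      rw [this, ← mul_assoc, mul_inv_cancel, one_mul]
  have hpowmem : ∀ (U : AddSubgroup V), (∀ v ∈ U, a • v ∈ U) → ∀ (x : ℕ), ∀ v ∈ U, a ^ x • v ∈ U := by
    intro U hU x
    induction x with
    | zero => intro v hv; simpa using hv
    | succ x ih => intro v hv; rw [pow_succ', mul_smul]; exact hU _ (ih v hv)
  obtain ⟨W, ⟨hWne, hWA⟩, hWmin⟩ := Set.Finite.exists_minimal
    (s := {W : AddSubgroup V | W ≠ ⊥ ∧ ∀ v ∈ W, a • v ∈ W}) (Set.toFinite _)
    ⟨⊤, ⟨fun htop => by
      obtain ⟨v, hv⟩ := exists_ne (0 : V)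
      exact hv (AddSubgroup.mem_bot.1 (htop ▸ AddSubgroup.mem_top v)), fun _ _ => trivial⟩⟩
  have hu2 : u ^ 2 ∈ Subgroup.zpowers a := by
    obtain ⟨x, hx⟩ := Subgroup.mem_zpowers_iff.1 (Subgroup.sq_mem_of_index_two hidx u')
    exact ⟨x, congrArg Subtype.val hx⟩
  by_cases hWtop : W = ⊤
  · letI : Module (ZMod q) V := AddCommGroup.zmodModule h.el
    refine not_perfect_small (q := q) (V := V) h.perfect h.cop h.faith ?_ h.orb
    refine card_le_sq_of_twist (a := a) (u := u) (j := j) (m := m) hm h.faith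
      (by rw [had, Subgroup.orderOf_coe, ha]) hj (by simpa using congrArg Subtype.val hconj) hu2
      fun U hU => ?_
    by_cases hU0 : U = ⊥
    · exact Or.inl hU0
    · exact Or.inr (top_le_iff.1 (hWtop ▸ hWmin ⟨hU0, hU⟩ (hWtop ▸ le_top)))
  -- two blocks
  set W' := W.map (DistribSMul.toAddMonoidHom V u) with hW'
  have hconjS : ∀ x : ℕ, ∃ y : ℕ, a * u = u * a ^ y := by
    intro _
    obtain ⟨y, hy⟩ := mem_powers_iff_mem_zpowers.2
      (hAn.conj_mem a' (Subgroup.mem_zpowers a') u'⁻¹)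
    refine ⟨y, ?_⟩
    have := congrArg Subtype.val hy
    simp only [SubgroupClass.coe_pow, Subgroup.coe_mul, InvMemClass.coe_inv, inv_inv] at this
    rw [had, hud, this, ← mul_assoc, ← mul_assoc, mul_inv_cancel, one_mul]
  have hW'A : ∀ v ∈ W', a • v ∈ W' := by
    rintro _ ⟨x, hx, rfl⟩
    obtain ⟨y, hy⟩ := hconjS 0
    refine ⟨a ^ y • x, hpowmem W hWA y x hx, ?_⟩
    simp only [DistribSMul.toAddMonoidHom_apply]
    rw [← mul_smul, ← mul_smul, hy]
  have hUinv : ∀ g ∈ (P : Subgroup S), ∀ v ∈ W, g • v ∈ W ∨ g • v ∈ W' := by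
    intro g hg v hv
    obtain ⟨x, hx | hx⟩ := hdec g hg
    · exact Or.inl (hx ▸ hpowmem W hWA x v hv)
    · exact Or.inr ⟨a ^ x • v, hpowmem W hWA x v hv, by
        rw [hx, mul_smul]; rfl⟩
  have hWW' : W ≠ W' := by
    intro e
    rcases h.irr_sylow P W (fun g hg v hv => (hUinv g hg v hv).elim id (e ▸ id)) with h0 | h0
    · exact hWne h0
    · exact hWtop h0
  have hcard : Nat.card W' = Nat.card W :=
    (Nat.card_congr (W.equivMapOfInjective _ (MulAction.injective u)).toEquiv).symm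
  have hsplit : ∀ s : S, (∀ v ∈ W, s • v ∈ W) ∨ (∀ v ∈ W, s • v ∈ W') := fun s =>
    smul_mem_union fun v hv => by
      obtain ⟨g, hg, hgv⟩ := h.exists_mem_sylow P s v
      exact hgv ▸ hUinv g hg v hv
  let M : Subgroup S :=
    { carrier := {s | ∀ v ∈ W, s • v ∈ W}
      one_mem' := fun v hv => by rwa [one_smul]
      mul_mem' := fun {x y} hx hy v hv => by rw [mul_smul]; exact hx _ (hy v hv)
      inv_mem' := fun {x} hx v hv => by
        have hinj : Function.Injective (fun w : W => (⟨x • (w : V), hx w w.2⟩ : W)) :=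
          fun a b e => Subtype.ext (MulAction.injective x (Subtype.ext_iff.1 e))
        obtain ⟨w, hw⟩ := (Finite.injective_iff_surjective.1 hinj) ⟨v, hv⟩
        have : x • (w : V) = v := congrArg Subtype.val hw
        rw [← this, inv_smul_smul]; exact w.2 }
  have heq : ∀ s : S, (∀ v ∈ W, s • v ∈ W') → ∀ v' ∈ W', ∃ v ∈ W, s • v = v' := by
    intro s hs v' hv'
    have hinj : Function.Injective (fun w : W => (⟨s • (w : V), hs w w.2⟩ : W')) :=
      fun a b e => Subtype.ext (MulAction.injective s (Subtype.ext_iff.1 e))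
    obtain ⟨w, hw⟩ := ((Nat.bijective_iff_injective_and_card _).2 ⟨hinj, hcard.symm⟩).2 ⟨v', hv'⟩
    exact ⟨w, w.2, congrArg Subtype.val hw⟩
  have hnotboth : ∀ s : S, s ∈ M → ¬ ∀ v ∈ W, s • v ∈ W' := by
    intro s hsM hs
    refine hWW' (le_antisymm (fun v hv => ?_) (fun v' hv' => ?_))
    · have : s⁻¹ ∈ M := M.inv_mem hsM
      rw [← smul_inv_smul s v]
      exact hs _ (this v hv)
    · obtain ⟨v, hv, rfl⟩ := heq s hs v' hv'
      exact hsM v hv
  have huM : u ∉ M := fun huM => hnotboth u huM fun v hv => ⟨v, hv, rfl⟩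
  refine not_index_two h.perfect M (Subgroup.index_eq_two_iff'.2 ⟨u⁻¹, fun b => ?_⟩)
  rcases hsplit b with hb | hb
  · refine Or.inr ⟨hb, fun hbu => huM ?_⟩
    have := M.mul_mem hb (M.inv_mem hbu)
    simpa using this
  · refine Or.inl ⟨fun v hv => ?_, fun hbM => hnotboth b hbM hb⟩
    obtain ⟨x, hx, hxv⟩ := hb v hv
    rw [mul_smul, ← hxv]
    change u⁻¹ • u • x ∈ W
    rwa [inv_smul_smul]

/-- The perfect case. -/
theorem LinHyp.absurd (h : LinHyp S V p q) [Nontrivial S] : False := by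
  obtain ⟨P⟩ : Nonempty (Sylow p S) := inferInstance
  rcases trichotomy P.2 with hc | hpl | ⟨h2, a, u, j, m, hm, ha, hidx, hu, hj, hconj⟩
  · exact h.not_cyclic P hc
  · exact h.not_plane P hpl
  · subst h2
    exact h.not_twisted P hm ha hidx hu hj hconj

end Cfsg.Agent.Baer
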