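import Cfsg.Agent.Lib.FGStruct.Baer.Solvable
import Cfsg.Agent.Lib.FiniteGroup.Kazarin
import Cfsg.Agent.Lib.Solvable.NilpotentFrattini

/-!
Groups in which every `q`-element has a class of prime power size.
-/

set_option autoImplicit false
set_option linter.style.haveILetI false
set_option linter.unusedSectionVars false

namespace Cfsg.Agent.Baer

open MulAction
open scoped commutatorElement

variable {G : Type*} [Group G] [Finite G] {q : ℕ} [hq : Fact q.Prime]

/-- The image of a `q`-element of prime power class modulo the core of that prime. -/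
theorem mem_pCore_quotient {r a k : ℕ} (hr : r.Prime) {x : G} (hx : orderOf x = q ^ k)
    (hcl : (Subgroup.centralizer ({x} : Set G)).index = r ^ a) [(Cfsg.pCore r G).Normal] :
    (x : G ⧸ Cfsg.pCore r G) ∈ Cfsg.pCore q (G ⧸ Cfsg.pCore r G) := by
  haveI := Fact.mk hr
  set f := QuotientGroup.mk' (Cfsg.pCore r G) with hf
  obtain ⟨b, -, hb⟩ := (Nat.dvd_prime_pow hr).1
    (hcl ▸ Cfsg.Agent.Kazarin.index_centralizer_map_dvd f (QuotientGroup.mk'_surjective _) x)
  have hc := Cfsg.Agent.Kazarin.normalClosure_commutative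
    (Cfsg.Agent.PBasic.pCore_quotient_pCore r G) (f x) hb
  set N := Subgroup.normalClosure ({f x} : Set (G ⧸ Cfsg.pCore r G)) with hN
  have hN' : IsPGroup q N := by
    have hall : ∀ y ∈ N, y ^ q ^ k = 1 := by
      intro y hy
      induction hy using Subgroup.closure_induction with
      | mem z hz =>
        obtain ⟨w, hw, hzw⟩ := Group.mem_conjugatesOfSet_iff.1 hz
        rw [Set.mem_singleton_iff] at hw
        subst hw
        obtain ⟨g, rfl⟩ := isConj_iff.1 hzw
        rw [conj_pow, ← map_pow, ← hx, pow_orderOf_eq_one, map_one, mul_one, mul_inv_cancel]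
      | one => exact one_pow _
      | mul y z hy hz ihy ihz =>
        rw [(show Commute y z from Subgroup.mem_centralizer_iff.1 (hc hz) y hy).mul_pow, ihy, ihz,
          one_mul]
      | inv y _ ihy => rw [inv_pow, ihy, inv_one]
    exact fun y => ⟨k, Subtype.ext (hall y y.2)⟩
  exact Cfsg.Agent.PBasic.le_pCore Subgroup.normalClosure_normal hN'
    (Subgroup.subset_normalClosure (Set.mem_singleton _))

theorem mem_pCore_of_self {a k : ℕ} {x : G} (hx : orderOf x = q ^ k)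
    (hcl : (Subgroup.centralizer ({x} : Set G)).index = q ^ a) : x ∈ Cfsg.pCore q G := by
  haveI := Cfsg.Agent.FittingCores.pCore_normal (G := G) q
  have h := mem_pCore_quotient hq.out hx hcl
  rw [Cfsg.Agent.PBasic.pCore_quotient_pCore, Subgroup.mem_bot, QuotientGroup.eq_one_iff] at h
  exact h

theorem mem_pCore_mod_core {r a k : ℕ} (hr : r.Prime) {x : G} (hx : orderOf x = q ^ k)
    (hcl : (Subgroup.centralizer ({x} : Set G)).index = r ^ a) [(Cfsg.pPrimeCore q G).Normal] :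
    (x : G ⧸ Cfsg.pPrimeCore q G) ∈ Cfsg.pCore q (G ⧸ Cfsg.pPrimeCore q G) := by
  by_cases hrq : r = q
  · subst hrq
    exact Cfsg.Agent.FittingCores.pCore_map_le r (QuotientGroup.mk'_surjective _)
      ⟨x, mem_pCore_of_self hx hcl, rfl⟩
  haveI := Cfsg.Agent.FittingCores.pCore_normal (G := G) r
  have hle : Cfsg.pCore r G ≤ Cfsg.pPrimeCore q G :=
    Cfsg.Agent.FittingCores.pCore_le_pPrimeCore hq.out hr hrq
  refine Cfsg.Agent.FittingCores.pCore_map_le q
    (f := QuotientGroup.map (Cfsg.pCore r G) (Cfsg.pPrimeCore q G) (MonoidHom.id G)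
      (by rwa [Subgroup.comap_id]))
    (fun y => ?_) ⟨(x : G ⧸ Cfsg.pCore r G), mem_pCore_quotient hr hx hcl, rfl⟩
  obtain ⟨g, rfl⟩ := QuotientGroup.mk_surjective y
  exact ⟨(g : G ⧸ Cfsg.pCore r G), rfl⟩

/-- The centralizer of a normal Sylow subgroup. -/
theorem centralizer_sylow_le {H : Type*} [Group H] [Finite H] (hO : Cfsg.pPrimeCore q H = ⊥)
    (S : Sylow q H) [hS : (S : Subgroup H).Normal] :
    Subgroup.centralizer ((S : Subgroup H) : Set H) ≤ S := by
  set C := Subgroup.centralizer ((S : Subgroup H) : Set H) with hC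
  haveI hCn : C.Normal := inferInstance
  have hall : ∀ R : Subgroup H, IsPGroup q R → R ≤ S := by
    intro R hR
    obtain ⟨T, hT⟩ := hR.exists_le_sylow
    haveI := Sylow.unique_of_normal S hS
    exact hT.trans (congrArg (fun X : Sylow q H => (X : Subgroup H)) (Subsingleton.elim T S)).le
  obtain ⟨T⟩ : Nonempty (Sylow q C) := inferInstance
  have hTle : ∀ t ∈ (T : Subgroup C), (t : H) ∈ (S : Subgroup H) := fun t ht =>
    hall _ (T.isPGroup'.map C.subtype) ⟨t, ht, rfl⟩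
  have hcent : Subgroup.normalizer ((T : Subgroup C) : Set C) ≤
      Subgroup.centralizer ((T : Subgroup C) : Set C) := fun c _ =>
    Subgroup.mem_centralizer_iff.2 fun t ht => Subtype.ext
      (Subgroup.mem_centralizer_iff.1 c.2 _ (hTle t ht))
  have hker : (MonoidHom.transferSylow T hcent).ker = ⊥ := by
    refine (Subgroup.eq_bot_iff_forall _).2 fun c hc => Subtype.ext ?_
    have h1 : (MonoidHom.transferSylow T hcent).ker ≤ Cfsg.pPrimeCore q C :=
      Cfsg.Agent.FittingCores.le_pPrimeCore inferInstance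
        ((hq.out.coprime_iff_not_dvd.2
          (MonoidHom.not_dvd_card_ker_transferSylow T hcent)).symm)
    have h2 := Cfsg.Agent.FittingCores.pPrimeCore_map_subtype_le q hCn ⟨c, h1 hc, rfl⟩
    rw [hO, Subgroup.mem_bot] at h2
    exact h2
  have hcomp := MonoidHom.ker_transferSylow_isComplement' T hcent
  rw [hker, Subgroup.isComplement'_bot_left] at hcomp
  intro c hc
  exact hTle ⟨c, hc⟩ (hcomp ▸ Subgroup.mem_top _)

theorem exists_conj_mem (Q : Sylow q G) {x : G} {k : ℕ} (hx : orderOf x = q ^ k) :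
    ∃ g : G, g * x * g⁻¹ ∈ (Q : Subgroup G) := by
  have hP : IsPGroup q (Subgroup.zpowers x) :=
    IsPGroup.of_card (n := k) (by rw [Nat.card_zpowers, hx])
  obtain ⟨T, hT⟩ := hP.exists_le_sylow
  obtain ⟨g, hg⟩ := MulAction.exists_smul_eq G T Q
  exact ⟨g, hg ▸ ⟨x, hT (Subgroup.mem_zpowers x), rfl⟩⟩

theorem eq_one_of_mem_pPrimeCore {x : G} (hx : x ∈ Cfsg.pPrimeCore q G) {k : ℕ}
    (hxk : x ^ q ^ k = 1) : x = 1 := by
  have h1 : (orderOf x).Coprime q :=
    Cfsg.Agent.PBasic.coprime_orderOf_of_mem (Cfsg.Agent.FittingCores.pPrimeCore_coprime q) hx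
  have h2 := Nat.dvd_gcd dvd_rfl (orderOf_dvd_of_pow_eq_one hxk)
  rwa [(h1.pow_right k).gcd_eq_one, Nat.dvd_one, orderOf_eq_one_iff] at h2

section

variable (Q : Sylow q G) [hKn : (Cfsg.pPrimeCore q G).Normal]

/-- The image of the Sylow subgroup. -/
noncomputable def imageSylow : Sylow q (G ⧸ Cfsg.pPrimeCore q G) :=
  Q.mapSurjective (f := QuotientGroup.mk' (Cfsg.pPrimeCore q G)) (QuotientGroup.mk'_surjective _)

theorem mem_imageSylow {x : G} (hx : x ∈ (Q : Subgroup G)) :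
    (x : G ⧸ Cfsg.pPrimeCore q G) ∈ (imageSylow Q : Subgroup (G ⧸ Cfsg.pPrimeCore q G)) :=
  ⟨x, hx, rfl⟩

theorem exists_of_mem_imageSylow {y : G ⧸ Cfsg.pPrimeCore q G}
    (hy : y ∈ (imageSylow Q : Subgroup (G ⧸ Cfsg.pPrimeCore q G))) :
    ∃ x ∈ (Q : Subgroup G), (x : G ⧸ Cfsg.pPrimeCore q G) = y := hy

theorem eq_of_mem_sylow {x y : G} (hx : x ∈ (Q : Subgroup G)) (hy : y ∈ (Q : Subgroup G))
    (h : (x : G ⧸ Cfsg.pPrimeCore q G) = y) : x = y := by
  obtain ⟨k, hk⟩ := Q.2 ⟨x⁻¹ * y, mul_mem (inv_mem hx) hy⟩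
  exact inv_mul_eq_one.1 (eq_one_of_mem_pPrimeCore (QuotientGroup.eq.1 h) (congrArg Subtype.val hk))

end

variable (hB : ∀ x : G, (∃ k : ℕ, orderOf x = q ^ k) →
  ∃ (r a : ℕ), r.Prime ∧ (Subgroup.centralizer ({x} : Set G)).index = r ^ a)

include hB

theorem baer_mem {x : G} (Q : Sylow q G) (hx : x ∈ (Q : Subgroup G)) :
    ∃ (k r a : ℕ), orderOf x = q ^ k ∧ r.Prime ∧
      (Subgroup.centralizer ({x} : Set G)).index = r ^ a := by
  obtain ⟨k, hk⟩ := IsPGroup.iff_orderOf.1 Q.2 ⟨x, hx⟩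
  rw [Subgroup.orderOf_mk] at hk
  obtain ⟨r, a, hr, ha⟩ := hB x ⟨k, hk⟩
  exact ⟨k, r, a, hk, hr, ha⟩

theorem imageSylow_eq_pCore (Q : Sylow q G) [(Cfsg.pPrimeCore q G).Normal] :
    (imageSylow Q : Subgroup (G ⧸ Cfsg.pPrimeCore q G)) = Cfsg.pCore q _ := by
  refine le_antisymm ?_ (Cfsg.Agent.FittingCores.pCore_le_sylow _)
  rintro _ ⟨x, hx, rfl⟩
  obtain ⟨k, r, a, hk, hr, ha⟩ := baer_mem hB Q hx
  exact mem_pCore_mod_core hr hk ha

theorem imageSylow_normal (Q : Sylow q G) [(Cfsg.pPrimeCore q G).Normal] :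
    (imageSylow Q : Subgroup (G ⧸ Cfsg.pPrimeCore q G)).Normal :=
  imageSylow_eq_pCore hB Q ▸ Cfsg.Agent.FittingCores.pCore_normal q

/-- An element with class of order prime to `q` centralizes the Sylow subgroup containing it. -/
theorem commute_of_coprime (Q : Sylow q G) {x : G} (hx : x ∈ (Q : Subgroup G))
    (hcl : (Subgroup.centralizer ({x} : Set G)).index.Coprime q) {y : G}
    (hy : y ∈ (Q : Subgroup G)) : y * x = x * y := by
  haveI := Cfsg.Agent.FittingCores.pPrimeCore_normal (G := G) q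
  haveI := imageSylow_normal hB Q
  set f := QuotientGroup.mk' (Cfsg.pPrimeCore q G) with hf
  set S : Subgroup (G ⧸ Cfsg.pPrimeCore q G) := ↑(imageSylow Q) with hS
  set C := (Subgroup.centralizer ({x} : Set G)).map f with hC
  have h1 : C.relIndex S = 1 := by
    obtain ⟨n, hn⟩ := IsPGroup.iff_card.1 (imageSylow Q).2
    have hd : C.relIndex S ∣ q ^ n := by
      rw [← hn]; exact Subgroup.relIndex_dvd_card _ _
    have hd' : C.relIndex S ∣ (Subgroup.centralizer ({x} : Set G)).index :=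
      (Cfsg.Agent.SolvStruct.relIndex_dvd_index_of_isSubnormal C
        (show S.Normal from imageSylow_normal hB Q).isSubnormal).trans
          (Subgroup.index_map_dvd _ (QuotientGroup.mk'_surjective _))
    exact Nat.eq_one_of_dvd_coprimes (hcl.pow_right n) hd' hd
  obtain ⟨c, hc, hcy⟩ := Subgroup.relIndex_eq_one.1 h1 (mem_imageSylow Q hy)
  refine eq_of_mem_sylow Q (mul_mem hy hx) (mul_mem hx hy) ?_
  change f (y * x) = f (x * y)
  rw [map_mul, map_mul, show f y = f c from hcy.symm, ← map_mul, ← map_mul,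
    Subgroup.mem_centralizer_singleton_iff.1 hc]

/-- The nonabelian case: the Sylow subgroup is normal and centralized by elements of order prime
to `q`. -/
theorem nonabelian_case (Q : Sylow q G) {x₀ y₀ : G} (hx₀ : x₀ ∈ (Q : Subgroup G))
    (hy₀ : y₀ ∈ (Q : Subgroup G)) (hne : y₀ * x₀ ≠ x₀ * y₀) :
    (Q : Subgroup G).Normal ∧
      ∀ g : G, (orderOf g).Coprime q → ∀ z ∈ (Q : Subgroup G), g * z = z * g := by
  have hnc : ∀ x ∈ (Q : Subgroup G), (∃ y ∈ (Q : Subgroup G), y * x ≠ x * y) →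
      x ∈ Cfsg.pCore q G ∧ ∃ a, (Subgroup.centralizer ({x} : Set G)).index = q ^ a := by
    rintro x hx ⟨y, hy, hxy⟩
    obtain ⟨k, r, a, hk, hr, ha⟩ := baer_mem hB Q hx
    by_cases hrq : r = q
    · subst hrq; exact ⟨mem_pCore_of_self hk ha, a, ha⟩
    · exact absurd (commute_of_coprime hB Q hx
        (ha ▸ ((Nat.coprime_primes hr hq.out).2 hrq).pow_left a) hy) hxy
  have hcentral : ∀ z ∈ (Q : Subgroup G), (∀ y ∈ (Q : Subgroup G), y * z = z * y) →
      y₀ * (x₀ * z) ≠ x₀ * z * y₀ := by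
    intro z _ hz h
    refine hne (mul_right_cancel (b := z) ?_)
    rw [mul_assoc, h, mul_assoc, ← hz y₀ hy₀, ← mul_assoc]
  have hle : (Q : Subgroup G) ≤ Cfsg.pCore q G := by
    intro z hz
    by_cases h : ∀ y ∈ (Q : Subgroup G), y * z = z * y
    · have h1 := (hnc _ (mul_mem hx₀ hz) ⟨y₀, hy₀, hcentral z hz h⟩).1
      have h2 := mul_mem (inv_mem (hnc _ hx₀ ⟨y₀, hy₀, hne⟩).1) h1
      rwa [inv_mul_cancel_left] at h2
    · push Not at h
      exact (hnc z hz h).1
  have hQ : (Q : Subgroup G) = Cfsg.pCore q G :=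
    le_antisymm hle (Cfsg.Agent.FittingCores.pCore_le_sylow Q)
  haveI hQn : (Q : Subgroup G).Normal := hQ ▸ Cfsg.Agent.FittingCores.pCore_normal q
  refine ⟨hQn, fun g hg => ?_⟩
  haveI : Group.IsNilpotent (Q : Subgroup G) := Q.2.isNilpotent
  set Φ := (frattini (Q : Subgroup G)).map (Q : Subgroup G).subtype with hΦ
  have hnorm : Subgroup.zpowers g ≤ Subgroup.normalizer ((Q : Subgroup G) : Set G) := by
    rw [Subgroup.normalizer_eq_top]; exact le_top
  have hcen : Subgroup.zpowers g ≤ Subgroup.centralizer ((Q : Subgroup G) : Set G) := by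
    refine Cfsg.Agent.CoprimeAct.le_centralizer_of_frattini hnorm ?_ ?_
    · rw [Nat.card_zpowers]
      obtain ⟨n, hn⟩ := IsPGroup.iff_card.1 Q.2
      exact (hg.pow_right n).coprime_dvd_right (hn ▸ Subgroup.card_subgroup_dvd_card _)
    intro a ha
    have haord : (orderOf a).Coprime q := hg.coprime_dvd_left (orderOf_dvd_of_mem_zpowers ha)
    have hnonc : ∀ x ∈ (Q : Subgroup G), (∃ y ∈ (Q : Subgroup G), y * x ≠ x * y) →
        a * x * a⁻¹ * x⁻¹ ∈ Φ := by
      intro x hx hxy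
      obtain ⟨n, hn⟩ := (hnc x hx hxy).2
      set C := Subgroup.centralizer ({x} : Set G)
      have htop : (Q : Subgroup G) ⊔ C = ⊤ := by
        rw [← Subgroup.index_eq_one]
        exact Nat.eq_one_of_dvd_coprimes ((hq.out.coprime_iff_not_dvd.2 Q.not_dvd_index).symm.pow_right n)
          (Subgroup.index_dvd_of_le le_sup_left) (hn ▸ Subgroup.index_dvd_of_le le_sup_right)
      obtain ⟨u, hu, c, hc, rfl⟩ := Subgroup.mem_sup_of_normal_left.1 (htop ▸ Subgroup.mem_top a)
      have : u * c * x * (u * c)⁻¹ * x⁻¹ = ⁅u, x⁆ := by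
        rw [mul_assoc u c x, Subgroup.mem_centralizer_singleton_iff.1 hc, commutatorElement_def]
        group
      rw [this]
      exact ⟨⁅(⟨u, hu⟩ : (Q : Subgroup G)), ⟨x, hx⟩⁆, Cfsg.Agent.SolvStruct.commutator_le_frattini _
        (Subgroup.commutator_mem_commutator (Subgroup.mem_top _) (Subgroup.mem_top _)), rfl⟩
    intro z hz
    by_cases h : ∀ y ∈ (Q : Subgroup G), y * z = z * y
    · have h1 := hnonc x₀ hx₀ ⟨y₀, hy₀, hne⟩
      have h2 := hnonc _ (mul_mem hx₀ hz) ⟨y₀, hy₀, hcentral z hz h⟩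
      have hmem : a * z * a⁻¹ ∈ (Q : Subgroup G) := hQn.conj_mem z hz a
      have hcx : x₀ * (a * z * a⁻¹ * z⁻¹) = a * z * a⁻¹ * z⁻¹ * x₀ := by
        have hazc : ∀ y ∈ (Q : Subgroup G), y * (a * z * a⁻¹) = a * z * a⁻¹ * y := fun y hy => by
          have := h (a⁻¹ * y * a⁻¹⁻¹) (hQn.conj_mem y hy a⁻¹)
          calc y * (a * z * a⁻¹) = a * (a⁻¹ * y * a⁻¹⁻¹ * z) * a⁻¹ := by group
            _ = a * z * a⁻¹ * y := by rw [this]; group
        exact ((show Commute x₀ (a * z * a⁻¹) from hazc x₀ hx₀).mul_right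
          (show Commute x₀ z from h x₀ hx₀).inv_right).eq
      have e : a * z * a⁻¹ * z⁻¹ = (a * x₀ * a⁻¹ * x₀⁻¹)⁻¹ * (a * (x₀ * z) * a⁻¹ * (x₀ * z)⁻¹) := by
        calc a * z * a⁻¹ * z⁻¹ = a * z * a⁻¹ * z⁻¹ * x₀ * x₀⁻¹ := by group
          _ = x₀ * (a * z * a⁻¹ * z⁻¹) * x₀⁻¹ := by rw [hcx]
          _ = _ := by group
      rw [e]
      exact mul_mem (inv_mem h1) h2
    · push Not at h
      exact hnonc z hz h
  exact fun z hz => (Subgroup.mem_centralizer_iff.1 (hcen (Subgroup.mem_zpowers g)) z hz).symm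

/-- If every element of order prime to `q` centralizes `Q` then `G = O_{q'}(G) × Q`. -/
theorem split_case (Q : Sylow q G) (hQn : (Q : Subgroup G).Normal)
    (hc : ∀ g : G, (orderOf g).Coprime q → ∀ z ∈ (Q : Subgroup G), g * z = z * g) :
    (∃ N : Subgroup G, N.Normal ∧ N.IsComplement' (Q : Subgroup G)) ∧
      ∀ x : G, (∃ k : ℕ, orderOf x = q ^ k) →
        ∃ a, (Subgroup.centralizer ({x} : Set G)).index = q ^ a := by
  haveI hKn := Cfsg.Agent.FittingCores.pPrimeCore_normal (G := G) q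
  haveI := imageSylow_normal hB Q
  set K := Cfsg.pPrimeCore q G with hK
  set f := QuotientGroup.mk' K with hf
  set S : Subgroup (G ⧸ K) := ↑(imageSylow Q) with hS
  have hCS := centralizer_sylow_le
    (Cfsg.Agent.FittingCores.pPrimeCore_quotient_eq_bot q K rfl) (imageSylow Q)
  have hStop : S = ⊤ := by
    refine Cfsg.Agent.FittingCores.eq_top_of_forall_sylow_le fun r hr => ?_
    haveI := Fact.mk hr
    by_cases hrq : r = q
    · subst hrq; exact ⟨imageSylow Q, le_rfl⟩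
    obtain ⟨T⟩ : Nonempty (Sylow r G) := inferInstance
    refine ⟨T.mapSurjective (QuotientGroup.mk'_surjective K), ?_⟩
    rintro _ ⟨g, hg, rfl⟩
    refine hCS (Subgroup.mem_centralizer_iff.2 ?_)
    rintro _ hy
    obtain ⟨z, hz, rfl⟩ := exists_of_mem_imageSylow Q hy
    obtain ⟨k, hk⟩ := IsPGroup.iff_orderOf.1 T.2 ⟨g, hg⟩
    rw [Subgroup.orderOf_mk] at hk
    exact (congrArg f (hc g (hk ▸ ((Nat.coprime_primes hr hq.out).2 hrq).pow_left k) z hz)).symm
  obtain ⟨n, hn⟩ := IsPGroup.iff_card.1 Q.2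
  have hcard : Nat.card (G ⧸ K) = Nat.card (Q : Subgroup G) := by
    have h1 : (S : Set (G ⧸ K)) = f '' (Q : Subgroup G) := rfl
    rw [← Subgroup.card_top (G := G ⧸ K), ← hStop]
    refine (Nat.card_congr (Equiv.ofBijective
      (fun z : (Q : Subgroup G) => (⟨f z, mem_imageSylow Q z.2⟩ : S)) ⟨fun a b hab => ?_, ?_⟩)).symm
    · exact Subtype.ext (eq_of_mem_sylow Q a.2 b.2 (congrArg Subtype.val hab))
    · rintro ⟨y, hy⟩
      obtain ⟨z, hz, rfl⟩ := exists_of_mem_imageSylow Q hy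
      exact ⟨⟨z, hz⟩, rfl⟩
  refine ⟨⟨K, hKn, Subgroup.isComplement'_of_coprime ?_ ?_⟩, ?_⟩
  · rw [← hcard, mul_comm, ← Subgroup.card_eq_card_quotient_mul_card_subgroup]
  · rw [hn]; exact (Cfsg.Agent.FittingCores.pPrimeCore_coprime q).pow_right n
  intro x ⟨k, hk⟩
  obtain ⟨g, hg⟩ := exists_conj_mem Q hk
  rw [← Cfsg.Agent.Kazarin.index_centralizer_conj g x]
  have hKle : K ≤ Subgroup.centralizer ({g * x * g⁻¹} : Set G) := fun c hcK =>
    Subgroup.mem_centralizer_singleton_iff.2 (hc c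
      (Cfsg.Agent.PBasic.coprime_orderOf_of_mem (Cfsg.Agent.FittingCores.pPrimeCore_coprime q) hcK)
      _ hg)
  obtain ⟨a, -, ha⟩ := (Nat.dvd_prime_pow hq.out).1
    (show (Subgroup.centralizer ({g * x * g⁻¹} : Set G)).index ∣ q ^ n by
      rw [← hn, ← hcard, ← Subgroup.index_eq_card]; exact Subgroup.index_dvd_of_le hKle)
  exact ⟨a, ha⟩

end Cfsg.Agent.Baer
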