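import Cfsg.Agent.Lib.FGStruct.Baer.Linear
import Cfsg.Agent.Lib.Components.Fitting

/-!
A coprime group of automorphisms of an elementary abelian group with all orbit sizes powers of one
prime is solvable.
-/

set_option autoImplicit false
set_option linter.style.haveILetI false
set_option linter.unusedSectionVars false

namespace Cfsg.Agent.Baer

open MulAction

variable {B V : Type*} [Group B] [Finite B] [AddCommGroup V] [Finite V] [DistribMulAction B V]

theorem perfect_of_surjective {A C : Type*} [Group A] [Group C] (f : A →* C)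
    (hf : Function.Surjective f) (h : commutator A = ⊤) : commutator C = ⊤ := by
  have h1 : (commutator A).map f = commutator C := by
    rw [commutator_def, commutator_def, Subgroup.map_commutator, Subgroup.map_top_of_surjective f hf]
  rw [← h1, h, Subgroup.map_top_of_surjective f hf]

theorem solvable_of_orbits {p q : ℕ} [Fact p.Prime] [Fact q.Prime] (hel : ∀ v : V, q • v = 0)
    (hcop : (Nat.card B).Coprime q) (hfaith : ∀ g : B, (∀ v : V, g • v = v) → g = 1)
    (horb : ∀ v : V, ∃ a, (stabilizer B v).index = p ^ a) : Group.IsSolvable B := by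
  classical
  obtain ⟨R, ⟨n, hn⟩, hRmin⟩ := Set.Finite.exists_minimal (s := Set.range (derivedSeries B))
    (Set.toFinite _) ⟨_, 0, rfl⟩
  by_cases hR0 : R = ⊥
  · exact (Group.isSolvable_def B).2 ⟨n, hn.trans hR0⟩
  exfalso
  haveI hRn : R.Normal := hn ▸ derivedSeries_normal B n
  have hRperf : ⁅R, R⁆ = R := by
    refine le_antisymm (Subgroup.commutator_le_left R R) ?_
    have : derivedSeries B (n + 1) = ⁅R, R⁆ := by rw [derivedSeries_succ, hn]
    exact this ▸ hRmin ⟨n + 1, rfl⟩ (this ▸ Subgroup.commutator_le_left R R)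
  have hperfR : commutator R = ⊤ := by
    refine Subgroup.map_injective R.subtype_injective ?_
    rw [commutator_def, Subgroup.map_commutator, ← MonoidHom.range_eq_map, Subgroup.range_subtype,
      hRperf]
  -- a minimal subgroup on which `R` acts nontrivially
  obtain ⟨W, ⟨hWinv, hWne⟩, hWmin⟩ := Set.Finite.exists_minimal
    (s := {W : AddSubgroup V | (∀ r : R, ∀ v ∈ W, r • v ∈ W) ∧ ∃ r : R, ∃ v ∈ W, r • v ≠ v})
    (Set.toFinite _) ⟨⊤, fun _ _ _ => trivial, by
      by_contra! h
      refine hR0 ((Subgroup.eq_bot_iff_forall R).2 fun r hr => hfaith r fun v => ?_)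
      exact h ⟨r, hr⟩ v trivial⟩
  obtain ⟨m, hm⟩ := exists_coef (V := V) (N := 1) (by simpa using hel)
    (hcop.coprime_dvd_left (Subgroup.card_subgroup_dvd_card R))
  -- vectors fixed by `R` in `W` vanish
  have hfix0 : ∀ v ∈ W, (∀ r : R, r • v = v) → v = 0 := by
    let D : AddSubgroup V := AddSubgroup.closure {x | ∃ r : R, ∃ v ∈ W, r • v - v = x}
    have hDW : D ≤ W := by
      rw [AddSubgroup.closure_le]
      rintro _ ⟨r, v, hv, rfl⟩
      exact sub_mem (hWinv r v hv) hv
    have hDavg : ∀ x ∈ D, avg R m x = 0 := by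
      intro x hx
      induction hx using AddSubgroup.closure_induction with
      | mem z hz => obtain ⟨r, v, -, rfl⟩ := hz; rw [map_sub, avg_smul, sub_self]
      | zero => exact map_zero _
      | add a b _ _ ha hb => rw [map_add, ha, hb, add_zero]
      | neg a _ ha => rw [map_neg, ha, neg_zero]
    have hWD : W ≤ D := by
      refine hWmin ⟨fun r x hx => ?_, ?_⟩ hDW
      · induction hx using AddSubgroup.closure_induction with
        | mem z hz =>
          obtain ⟨r', v, hv, rfl⟩ := hz
          rw [smul_sub, ← mul_smul,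
            show (r * r') • v - r • v = ((r * r') • v - v) - (r • v - v) by abel]
          exact sub_mem (AddSubgroup.subset_closure ⟨_, v, hv, rfl⟩)
            (AddSubgroup.subset_closure ⟨_, v, hv, rfl⟩)
        | zero => rw [smul_zero]; exact zero_mem _
        | add a b _ _ ha hb => rw [smul_add]; exact add_mem ha hb
        | neg a _ ha => rw [smul_neg]; exact neg_mem ha
      · by_contra! hall
        obtain ⟨r, v, hv, hrv⟩ := hWne
        haveI := Fintype.ofFinite R
        have hmem : v - avg R m v ∈ D := by
          have h1 : v - avg R m v = m • ∑ g : R, (v - g • v) := by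
            rw [avg_apply, Finset.sum_sub_distrib, zsmul_sub]
            congr 1
            rw [Finset.sum_const, Finset.card_univ, ← Nat.card_eq_fintype_card, ← natCast_zsmul,
              smul_smul, hm]
          rw [h1]
          refine AddSubgroup.zsmul_mem _ (AddSubgroup.sum_mem _ fun g _ => ?_) m
          rw [← neg_sub]
          exact neg_mem (AddSubgroup.subset_closure ⟨g, v, hv, rfl⟩)
        apply hrv
        have h2 := hall r _ hmem
        rw [smul_sub, smul_avg, sub_left_inj] at h2
        exact h2
    intro v hv hfix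
    rw [← avg_of_fixed hm hfix]
    exact hDavg v (hWD hv)
  -- the image
  letI actW : DistribMulAction R W :=
    { smul := fun r w => ⟨r • (w : V), hWinv r w w.2⟩
      one_smul := fun w => Subtype.ext (one_smul R (w : V))
      mul_smul := fun r s w => Subtype.ext (mul_smul r s (w : V))
      smul_zero := fun r => Subtype.ext (smul_zero r)
      smul_add := fun r a b => Subtype.ext (smul_add r (a : V) b) }
  let φ : R →* AddMonoid.End W :=
    { toFun := fun r => DistribSMul.toAddMonoidHom W r
      map_one' := AddMonoidHom.ext fun w => one_smul R w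
      map_mul' := fun r s => AddMonoidHom.ext fun w => mul_smul r s w }
  let ψ : R →* (AddMonoid.End W)ˣ := φ.toHomUnits
  letI actE : DistribMulAction ψ.range W :=
    { smul := fun e w => ((e : (AddMonoid.End W)ˣ) : AddMonoid.End W) w
      one_smul := fun w => rfl
      mul_smul := fun e f w => rfl
      smul_zero := fun e => map_zero _
      smul_add := fun e a b => map_add _ a b }
  have hsm : ∀ (r : R) (w : W), ψ.rangeRestrict r • w = r • w := fun r w => rfl
  haveI : Finite (AddMonoid.End W) := Finite.of_injective (fun f : AddMonoid.End W => (f : W → W))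
    DFunLike.coe_injective
  haveI : Nontrivial ψ.range := by
    obtain ⟨r, v, hv, hrv⟩ := hWne
    refine ⟨⟨ψ.rangeRestrict r, 1, fun h => hrv ?_⟩⟩
    have := hsm r ⟨v, hv⟩
    rw [h, one_smul] at this
    exact (congrArg Subtype.val this).symm
  refine (show LinHyp ψ.range W p q from ⟨?_, ?_, ?_, ?_, ?_, ?_⟩).absurd
  · exact perfect_of_surjective ψ.rangeRestrict ψ.rangeRestrict_surjective hperfR
  · intro e he
    exact Subtype.ext (Units.ext (AddMonoidHom.ext fun w => he w))
  · intro U hU
    by_cases hU0 : U = ⊥
    · exact Or.inl hU0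
    refine Or.inr ?_
    set U' : AddSubgroup V := U.map W.subtype with hU'
    have hU'inv : ∀ r : R, ∀ v ∈ U', r • v ∈ U' := by
      rintro r _ ⟨w, hw, rfl⟩
      exact ⟨ψ.rangeRestrict r • w, hU _ w hw, rfl⟩
    have hne : ∃ r : R, ∃ v ∈ U', r • v ≠ v := by
      by_contra! hall
      refine hU0 ((AddSubgroup.eq_bot_iff_forall U).2 fun w hw => Subtype.ext ?_)
      exact hfix0 w w.2 fun r => hall r _ ⟨w, hw, rfl⟩
    have hle : W ≤ U' := hWmin ⟨hU'inv, hne⟩ (by rintro _ ⟨w, -, rfl⟩; exact w.2)
    rw [eq_top_iff]
    intro w _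
    obtain ⟨w', hw', he⟩ := hle w.2
    rwa [← Subtype.ext he]
  · exact fun w => Subtype.ext (hel w)
  · exact hcop.coprime_dvd_left
      ((Subgroup.card_range_dvd ψ).trans (Subgroup.card_subgroup_dvd_card R))
  · intro w
    obtain ⟨a, ha⟩ := horb (w : V)
    have hdvd : (stabilizer B (w : V)).relIndex R ∣ p ^ a :=
      ha ▸ Cfsg.Agent.SolvStruct.relIndex_dvd_index_of_isSubnormal _ hRn.isSubnormal
    obtain ⟨b, -, hb⟩ := (Nat.dvd_prime_pow Fact.out).1 hdvd
    refine ⟨b, ?_⟩
    rw [← hb, ← Subgroup.index_comap_of_surjective _ ψ.rangeRestrict_surjective]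
    refine congrArg Subgroup.index ?_
    ext r
    exact ⟨fun h => congrArg Subtype.val h, fun h => Subtype.ext h⟩

end Cfsg.Agent.Baer
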